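import Groth.Agent.LefAmpleLib.Vanish
import Groth.Agent.JacLib.Tuples
import Groth.Agent.BlowCompLib.Compose
import Groth.Agent.S8914
import Groth.Agent.HilbObsLib.Ideal

/-!
# Powers of an ideal with ample inverse
-/

set_option autoImplicit false
set_option backward.isDefEq.respectTransparency false
set_option linter.style.haveILetI false

universe u

open CategoryTheory CategoryTheory.Limits AlgebraicGeometry

noncomputable section

namespace Groth.Agent.LefAmpleLib

variable {X : Scheme.{u}}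

theorem nonempty_idealMod_mul_iso {A B : X.IdealSheafData} (hA : PicF.IsInvertible (ClSub.idealMod A))
    (hB : PicF.IsInvertible (ClSub.idealMod B)) (hAB : PicF.IsInvertible (ClSub.idealMod (A * B))) :
    Nonempty (ClSub.idealMod (A * B) ≅ CohB1.tensorMod (ClSub.idealMod A) (ClSub.idealMod B)) := by
  refine (PicLib.cls_eq_cls hAB (AmpleLib.isInvertible_tensor hA hB)).1 ?_
  rw [JacLib.cls_idealMod_mul hA hB hAB]
  exact (PicLib.cls_tensor hA hB).symm

theorem idealMod_pow_succ_aux [IsNoetherian X] {I : X.IdealSheafData} (hI : BlowUp.IsEffCartierIdeal I) :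
    ∀ j : ℕ, BlowUp.IsEffCartierIdeal (I ^ (j + 1)) ∧
      IntLib.mk (ClSub.idealMod (I ^ (j + 1))) = IntLib.mk (ClSub.idealMod I) ^ (j + 1)
  | 0 => by rw [pow_one, pow_one]; exact ⟨hI, rfl⟩
  | j + 1 => by
    obtain ⟨h1, h2⟩ := idealMod_pow_succ_aux hI j
    have h := BlowCompLib.isEffCartier_mul h1 hI
    obtain ⟨e⟩ := nonempty_idealMod_mul_iso ((S8914.result _).2 h1) ((S8914.result _).2 hI) ((S8914.result _).2 h)
    rw [pow_succ I (j + 1), pow_succ (IntLib.mk _) (j + 1)]
    exact ⟨h, by rw [IntLib.mk_congr e, IntLib.mk_tensor, h2]⟩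

theorem nonempty_idealMod_pow_iso [IsNoetherian X] {I : X.IdealSheafData} {L : X.Modules}
    (hL : ClSub.IsInverseOf L (ClSub.idealMod I)) (m : ℕ) :
    Nonempty (CohB1.tensorPow (ClSub.idealMod I) (m + 1) ≅ ClSub.idealMod (I ^ (m + 1))) := by
  obtain ⟨η⟩ := hL
  have hI := (S8914.result _).1 (AmpleLib.isInvertible_of_tensor_iso (AmpleLib.comm (ClSub.idealMod I) L ≪≫ η))
  rw [← IntLib.mk_eq_mk, IntLib.mk_tensorPow, (idealMod_pow_succ_aux hI m).2]

/-- Cohomology of a locally free module twisted by high powers of an ideal with ample inverse. -/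
theorem eventually_subsingleton_ideal_tensor (k : Type u) [Field k] [X.Over (Spec (CommRingCat.of k))]
    [IsProper (X ↘ Spec (CommRingCat.of k))] {I : X.IdealSheafData} {L : X.Modules}
    (hL : ClSub.IsInverseOf L (ClSub.idealMod I)) (hA : CohB1.IsAmple L) {E : X.Modules} (hE : FlatMod.IsFinLocFree E)
    {r : ℕ} (hdepth : ∀ x : X, IsClosed ({x} : Set X) → (r : ℕ∞) ≤ LocCoh.depth (X.presheaf.stalk x) (X.presheaf.stalk x)) :
    ∃ m₀ : ℕ, ∀ m, m₀ ≤ m → ∀ i, i < r → Subsingleton (Coh.HH X (CohB1.tensorMod E (ClSub.idealMod (I ^ m))) i) := by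
  haveI := EulerIneqLib.isNoetherian_proper (X := X) k
  obtain ⟨m₀, hm₀⟩ := eventually_subsingleton_neg k hA hL hE hdepth
  refine ⟨m₀ + 1, fun m hm i hi => ?_⟩
  obtain ⟨m, rfl⟩ : ∃ j, m = j + 1 := ⟨m - 1, by omega⟩
  obtain ⟨e⟩ := nonempty_idealMod_pow_iso hL m
  haveI := hm₀ (m + 1) (by omega) i hi
  exact ProjCoh.subsingleton_of_iso (AmpleLib.tIso (Iso.refl E) e) i

end Groth.Agent.LefAmpleLib
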