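import Groth.Prelude.Def_Lef

/-!
# The quotient maps between thickenings commute with the projections from `O`
-/

set_option autoImplicit false

universe u

open CategoryTheory AlgebraicGeometry

noncomputable section

namespace Groth.Agent.LefAmpleLib

theorem unitToPush_congr {X Y : Scheme.{u}} {f g : X ⟶ Y} (hf : f = g) :
    ClSub.unitToPush f ≫ (Scheme.Modules.pushforwardCongr hf).hom.app _ = ClSub.unitToPush g := by
  subst hf
  refine Scheme.Modules.hom_ext _ _ fun V => AddCommGrpCat.hom_ext (AddMonoidHom.ext fun s => ?_)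
  simp

theorem unitToPush_comp {X Y Z : Scheme.{u}} (a : X ⟶ Y) (b : Y ⟶ Z) :
    ClSub.unitToPush b ≫ (Scheme.Modules.pushforward b).map (ClSub.unitToPush a) ≫
      (Scheme.Modules.pushforwardComp a b).hom.app _ = ClSub.unitToPush (a ≫ b) := by
  refine Scheme.Modules.hom_ext _ _ fun V => AddCommGrpCat.hom_ext (AddMonoidHom.ext fun s => ?_)
  rfl

@[reassoc]
theorem toSubscheme_quotMap {U : Scheme.{u}} {I J : U.IdealSheafData} (h : I ≤ J) :
    ClSub.toSubscheme I ≫ Lef.quotMap h = ClSub.toSubscheme J := by
  refine Eq.trans ?_ (unitToPush_congr (Scheme.IdealSheafData.inclusion_subschemeι h))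
  rw [Lef.quotMap, ← unitToPush_comp, Category.assoc, Category.assoc]

end Groth.Agent.LefAmpleLib
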