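import Groth.Agent.AmpleEmb.FibreAmple

/-!
# Bijectivity in the long exact cohomology sequence
-/

set_option autoImplicit false
set_option linter.style.haveILetI false

universe u

open CategoryTheory CategoryTheory.Limits AlgebraicGeometry TopologicalSpace

noncomputable section

namespace Groth.Agent.LefAmpleLib

variable {X : Scheme.{u}} {T : ShortComplex (Sheaf (Opens.grothendieckTopology X) AddCommGrpCat.{u})}

theorem injective_H_map_g (hT : T.ShortExact) (p : ℕ) (h : Subsingleton (Sheaf.H T.X₁ p)) :
    Function.Injective (Sheaf.H.map T.g p) := by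
  intro a b hab
  rw [← sub_eq_zero]
  have h0 : (a - b).comp (Abelian.Ext.mk₀ T.g) (add_zero p) = 0 := by
    have := congrArg₂ (· - ·) hab (rfl : Sheaf.H.map T.g p b = Sheaf.H.map T.g p b)
    simp only [sub_self, ← map_sub] at this
    exact this
  obtain ⟨y, hy⟩ := Abelian.Ext.covariant_sequence_exact₂ _ hT (a - b) h0
  haveI := h
  rw [← hy, show y = 0 from Subsingleton.elim (α := Sheaf.H T.X₁ p) y 0, Abelian.Ext.zero_comp]

theorem surjective_H_map_g (hT : T.ShortExact) (p : ℕ) (h : Subsingleton (Sheaf.H T.X₁ (p + 1))) :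
    Function.Surjective (Sheaf.H.map T.g p) := by
  intro x
  haveI := h
  exact Abelian.Ext.covariant_sequence_exact₃ _ hT x rfl (Subsingleton.elim (α := Sheaf.H T.X₁ (p + 1)) _ _)

end Groth.Agent.LefAmpleLib
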