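import Groth.Agent.LefAmpleLib.IdealPow
import Groth.Agent.LefAmpleLib.Long
import Groth.Agent.AmpleEmb.Generated
import Groth.Agent.VBLib.Twist
import Groth.Agent.CMRegLib.Bounded
import Groth.Agent.CurveLib.SmulPow
import Groth.Agent.HilbObsLib.Ideal
import Groth.Agent.CMRegLib.Seq
import Groth.Agent.DCohLib.Restrict
import Groth.Prelude.Def_Lef

/-!
# Maps out of coherent modules to the structure sheaf and its thickenings
-/

set_option autoImplicit false
set_option backward.isDefEq.respectTransparency false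
set_option linter.style.haveILetI false
set_option maxHeartbeats 800000

universe u

open CategoryTheory CategoryTheory.Limits AlgebraicGeometry TopologicalSpace
open Groth.Agent.CurveLib (tensR secOf)

noncomputable section

namespace Groth.Agent.LefAmpleLib

variable {X : Scheme.{u}}

/-- Global maps out of `O` as classes in degree zero. -/
theorem bijective_unitHom_iff {N N' : X.Modules} (f : N ⟶ N')
    (h : Function.Bijective (Sheaf.H.map ((SheafOfModules.toSheaf X.ringCatSheaf).map f) 0)) :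
    Function.Bijective (fun g : Coh.structureModule X ⟶ N => g ≫ f) := by
  let ψ : ∀ M : X.Modules, (Coh.structureModule X ⟶ M) → Coh.HH X M 0 := fun M g => (secOf M).symm (AmpleLib.sec g)
  have hψ : ∀ M, Function.Bijective (ψ M) := fun M =>
    ⟨fun a b e => DCohLib.hom_unit_ext ((secOf M).symm.injective e),
      fun c => ⟨DCohLib.secHom M (secOf M c), by
        simp only [ψ]; rw [AmpleLib.sec_secHom, AddEquiv.symm_apply_apply]⟩⟩
  have hnat : ∀ g, ψ N' (g ≫ f) = Sheaf.H.map ((SheafOfModules.toSheaf X.ringCatSheaf).map f) 0 (ψ N g) := by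
    intro g
    apply (secOf N').injective
    simp only [ψ, AddEquiv.apply_symm_apply]
    show _ = CohBase.H0Equiv (⊤ : X.Opens) (Coh.toAb N') (CohBase.HEquiv _ 0 (Sheaf.H.map _ 0 _))
    rw [CohBase.HEquiv_map, CohBase.H0Equiv_hmap]
    show _ = f.app ⊤ (secOf N ((secOf N).symm (AmpleLib.sec g)))
    rw [AddEquiv.apply_symm_apply]
    rfl
  refine (Function.Bijective.of_comp_iff' (hψ N') _).1 ?_
  rw [show ψ N' ∘ (fun g => g ≫ f) = _ ∘ ψ N from funext hnat]
  exact h.comp (hψ N)

variable (k : Type u) [Field k] [X.Over (Spec (CommRingCat.of k))] [IsProper (X ↘ Spec (CommRingCat.of k))]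
  {I : X.IdealSheafData} {L : X.Modules} (hL : ClSub.IsInverseOf L (ClSub.idealMod I)) (hA : CohB1.IsAmple L)
  (hdepth : ∀ x : X, IsClosed ({x} : Set X) → (2 : ℕ∞) ≤ LocCoh.depth (X.presheaf.stalk x) (X.presheaf.stalk x))

include k hL hA hdepth in
/-- Maps out of a negative twist of a free module see only a thickening. -/
theorem eventually_bijective_comp {A B : X.Modules} (hB : FlatMod.IsFinLocFree B)
    (e : CohB1.tensorMod A B ≅ Coh.structureModule X) (r : ℕ) :
    ∃ n₀ : ℕ, ∀ n, n₀ ≤ n → Function.Bijective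
      (fun g : (tensR A).obj (FlatMod.freeMod X r) ⟶ Coh.structureModule X => g ≫ ClSub.toSubscheme (I ^ (n + 1))) := by
  obtain ⟨m₀, hm⟩ := eventually_subsingleton_ideal_tensor k hL hA hB (r := 2) (by exact_mod_cast hdepth)
  refine ⟨m₀, fun n hn => ?_⟩
  haveI := VBLib.isEquivalence_tensR (AmpleLib.comm B A ≪≫ e)
  haveI := HilbObsLib.epi_toSubscheme (I ^ (n + 1))
  let S := ShortComplex.mk (kernel.ι (ClSub.toSubscheme (I ^ (n + 1)))) (ClSub.toSubscheme (I ^ (n + 1)))
    (kernel.condition _)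
  have hS := QCohLib.toAb_shortExact
    ((CMRegLib.shortExact_ker (ClSub.toSubscheme (I ^ (n + 1)))).map_of_exact (tensR B))
  have hv : ∀ i, i < 2 → Subsingleton (Coh.HH X ((tensR B).obj (ClSub.idealMod (I ^ (n + 1)))) i) := fun i hi =>
    haveI := hm (n + 1) (hn.trans n.le_succ) i hi
    ProjCoh.subsingleton_of_iso (AmpleLib.comm B (ClSub.idealMod (I ^ (n + 1)))) i
  have h1 := bijective_unitHom_iff ((tensR B).map (ClSub.toSubscheme (I ^ (n + 1))))
    ⟨injective_H_map_g hS 0 (hv 0 (by norm_num)), surjective_H_map_g hS 0 (hv 1 (by norm_num))⟩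
  have h2 : Function.Bijective (fun g : FlatMod.freeMod X r ⟶ (tensR B).obj (Coh.structureModule X) =>
      g ≫ (tensR B).map (ClSub.toSubscheme (I ^ (n + 1)))) := by
    refine ⟨fun g g' h => Sigma.hom_ext _ _ fun i => h1.1 ?_, fun g => ?_⟩
    · simp only [Category.assoc]
      exact congrArg (fun t => Sigma.ι (fun _ : Fin r => Coh.structureModule X) i ≫ t) h
    · choose g' hg' using fun i => h1.2 (Sigma.ι (fun _ : Fin r => Coh.structureModule X) i ≫ g)
      exact ⟨Sigma.desc g', Sigma.hom_ext _ _ fun i => (Sigma.ι_desc_assoc _ _ _).trans (hg' i)⟩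
  let adj := (CategoryTheory.Equivalence.mk (tensR A) (tensR B) (VBLib.untwist e).symm
    (VBLib.untwist (AmpleLib.comm B A ≪≫ e))).toAdjunction
  refine (Function.Bijective.of_comp_iff' (adj.homEquiv _ _).bijective _).1 ?_
  refine (congrArg Function.Bijective (funext fun g => adj.homEquiv_naturality_right g
    (ClSub.toSubscheme (I ^ (n + 1))))).mpr ?_
  exact h2.comp (adj.homEquiv _ _).bijective

include k hA in
/-- A coherent module is a quotient of a negative twist of a free module. -/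
theorem exists_epi_tensR {M : X.Modules} (hM : Coh.IsCoh M) :
    ∃ (A B : X.Modules) (r : ℕ) (π : (tensR A).obj (FlatMod.freeMod X r) ⟶ M),
      FlatMod.IsFinLocFree B ∧ PicF.IsInvertible A ∧ Nonempty (CohB1.tensorMod A B ≅ Coh.structureModule X) ∧ Epi π := by
  haveI := EulerIneqLib.isNoetherian_proper (X := X) k
  obtain ⟨N, hN⟩ := AmpleEmb.eventually_isGloballyGenerated hA hM
  let B := CohB1.tensorPow L N
  have hB : PicF.IsInvertible B := AmpleLib.isInvertible_tensorPow hA.1 N
  obtain ⟨A, hAi, ⟨η⟩⟩ := AmpleEmb.exists_isInverseOf hB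
  haveI := EulerIneqLib.finite_HH (k := k) (X := X) (CMRegLib.isCoh_tensor_inv hM hB) 0
  obtain ⟨Φ, hΦ⟩ := CMRegLib.exists_epi_of_gg k (hN N le_rfl)
  haveI := hΦ
  exact ⟨A, B, _, (tensR A).map Φ ≫ ((VBLib.untwist η).app M).hom, CurveLib.isFinLocFree_of_isInvertible hB, hAi,
    ⟨AmpleLib.comm A B ≪≫ η⟩, inferInstance⟩

include k hL hA hdepth in
/-- The Lefschetz bijection for coherent modules on the whole scheme. -/
theorem homToFormalBijective_of_coh
    (hq : ∀ n, ClSub.toSubscheme (I ^ (n + 2)) ≫ Lef.quotMap (Lef.pow_succ_le I n) = ClSub.toSubscheme (I ^ (n + 1)))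
    {M : X.Modules} (hM : Coh.IsCoh M) : Lef.HomToFormalBijective I M := by
  haveI := EulerIneqLib.isNoetherian_proper (X := X) k
  have hinj : ∀ {M : X.Modules}, Coh.IsCoh M → ∀ φ : M ⟶ Coh.structureModule X,
      (∀ n : ℕ, φ ≫ ClSub.toSubscheme (I ^ (n + 1)) = 0) → φ = 0 := by
    intro M hM φ h
    obtain ⟨A, B, r, π, hB, -, ⟨e⟩, hπ⟩ := exists_epi_tensR k hA hM
    obtain ⟨n₀, hn₀⟩ := eventually_bijective_comp k hL hA hdepth hB e r
    haveI := hπ
    rw [← cancel_epi π, comp_zero]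
    exact (hn₀ n₀ le_rfl).1 (by simp [h n₀])
  refine ⟨fun φ ψ h => sub_eq_zero.1 (hinj hM (φ - ψ) fun n => by rw [Preadditive.sub_comp, h n, sub_self]),
    fun y hy => ?_⟩
  obtain ⟨A, B, r, π, hB, hAi, ⟨e⟩, hπ⟩ := exists_epi_tensR k hA hM
  haveI := hπ
  obtain ⟨n₀, hn₀⟩ := eventually_bijective_comp k hL hA hdepth hB e r
  obtain ⟨φ₀, hφ₀⟩ := (hn₀ n₀ le_rfl).2 (π ≫ y n₀)
  have hup : ∀ d, φ₀ ≫ ClSub.toSubscheme (I ^ (n₀ + d + 1)) = π ≫ y (n₀ + d) := by
    intro d
    induction d with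
    | zero => exact hφ₀
    | succ d ih =>
      obtain ⟨φ', hφ'⟩ := (hn₀ (n₀ + (d + 1)) (Nat.le_add_right _ _)).2 (π ≫ y (n₀ + (d + 1)))
      simp only at hφ'
      have : φ' = φ₀ := (hn₀ (n₀ + d) (Nat.le_add_right _ _)).1 (by
        simp only
        rw [ih, ← hq (n₀ + d), ← Category.assoc,
          show φ' ≫ ClSub.toSubscheme (I ^ (n₀ + d + 2)) = π ≫ y (n₀ + d + 1) from hφ', Category.assoc, hy])
      rw [← this]
      exact hφ'
  have hall : ∀ n, φ₀ ≫ ClSub.toSubscheme (I ^ (n + 1)) = π ≫ y n := by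
    have key : ∀ j n, n₀ ≤ n + j → φ₀ ≫ ClSub.toSubscheme (I ^ (n + 1)) = π ≫ y n := by
      intro j
      induction j with
      | zero =>
        intro n h
        obtain ⟨d, rfl⟩ := Nat.exists_eq_add_of_le (by simpa using h : n₀ ≤ n)
        exact hup d
      | succ j ih =>
        intro n h
        rw [← hq n, ← Category.assoc, ih (n + 1) (by omega), Category.assoc, hy]
    exact fun n => key n₀ n (Nat.le_add_left _ _)
  have hE : Coh.IsCoh ((tensR A).obj (FlatMod.freeMod X r)) :=
    CMRegLib.isCoh_tensor_inv (CurveLib.isCoh_of_isFinLocFree (DCohLib.isFinLocFree_freeMod r)) hAi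
  have hK : kernel.ι π ≫ φ₀ = 0 := hinj (QCohLib.isCoh_kernel_cokernel π hE hM).1 _ fun n => by
    rw [Category.assoc, hall n, kernel.condition_assoc, zero_comp]
  refine ⟨Abelian.epiDesc π φ₀ hK, fun n => ?_⟩
  rw [← cancel_epi π, ← Category.assoc, Abelian.comp_epiDesc, hall n]

end Groth.Agent.LefAmpleLib
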