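import Groth.Agent.AbelMapLib.CanSect
import Groth.Agent.AmpleLib.UnivClosed
import Groth.Agent.H1ZeroLib.Quot

/-!
# A closed set missing an ample divisor consists of closed points
-/

set_option autoImplicit false
set_option backward.isDefEq.respectTransparency false
set_option linter.style.haveILetI false

universe u

open CategoryTheory CategoryTheory.Limits AlgebraicGeometry TopologicalSpace

noncomputable section

namespace Groth.Agent.LefAmpleLib

variable {X : Scheme.{u}} {I : X.IdealSheafData} {L : X.Modules}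

theorem exists_genLocus_ge_compl (hL : ClSub.IsInverseOf L (ClSub.idealMod I)) (hA : CohB1.IsAmple L) :
    ∃ s : Coh.structureModule X ⟶ L, ((I.support : Set X))ᶜ ⊆ (CohB1.genLocus L s : Set X) := by
  obtain ⟨η⟩ := hL
  have hI : PicF.IsInvertible (ClSub.idealMod I) :=
    AmpleLib.isInvertible_of_tensor_iso (AmpleLib.comm (ClSub.idealMod I) L ≪≫ η)
  obtain ⟨s, hs⟩ := AbelMapLib.exists_canSect I hA.1 hI η
  refine ⟨DCohLib.secHom L s, fun x hx => ?_⟩
  obtain ⟨W, hxW, l, a, hl, hIa, hsa⟩ := hs x
  have h := AmpleLib.genLocus_inf_eq_basicOpen (DCohLib.secHom L s) (W := W.1) hl (a := a) (by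
    rw [AmpleLib.resT, AmpleLib.sec_secHom]
    exact hsa.symm)
  have hxa : x ∈ X.basicOpen a := by
    rw [X.mem_basicOpen a x hxW]
    have htop : IntMult.stalkIdeal I x = ⊤ := IdealMulLib.stalkIdeal_eq_top I hx
    rw [IdealStalkLib.stalkIdeal_eq I W x hxW, hIa, Ideal.map_span, Set.image_singleton,
      Ideal.span_singleton_eq_top] at htop
    exact htop
  rw [← h] at hxa
  exact hxa.1

variable (k : Type u) [Field k] [X.Over (Spec (CommRingCat.of k))] [IsProper (X ↘ Spec (CommRingCat.of k))]

include k in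
theorem isClosed_singleton_of_notMem (hL : ClSub.IsInverseOf L (ClSub.idealMod I)) (hA : CohB1.IsAmple L)
    (U : X.Opens) (hU : (I.support : Set X) ⊆ (U : Set X)) {x : X} (hx : x ∉ U) : IsClosed ({x} : Set X) := by
  let f := X ↘ Spec (CommRingCat.of k)
  obtain ⟨s, hs⟩ := exists_genLocus_ge_compl hL hA
  have hV := AmpleLib.isAffineOpen_genLocus_of_universallyClosed f hA s
  let V := CohB1.genLocus L s
  let J := Scheme.IdealSheafData.vanishingIdeal ⟨(U : Set X)ᶜ, U.2.isClosed_compl⟩
  have hJ : Set.range J.subschemeι = (U : Set X)ᶜ := by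
    rw [Scheme.IdealSheafData.range_subschemeι]
    simp [J]
  have hsub : Set.range J.subschemeι ⊆ Set.range V.ι := by
    rw [Scheme.Opens.range_ι, hJ]
    exact fun z hz => hs fun hzI => hz (hU hzI)
  let g := IsOpenImmersion.lift V.ι J.subschemeι hsub
  have hg : g ≫ V.ι = J.subschemeι := IsOpenImmersion.lift_fac _ _ _
  haveI : IsClosedImmersion (g ≫ V.ι) := hg ▸ inferInstance
  haveI : IsClosedImmersion g := IsClosedImmersion.of_comp g V.ι
  haveI : IsAffine V.toScheme := hV
  haveI : IsAffine J.subscheme := isAffine_of_isAffineHom g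
  haveI : IsFinite (J.subschemeι ≫ f) := IsFinite.iff_isProper_and_isAffineHom.2 ⟨inferInstance, inferInstance⟩
  haveI : IsArtinianRing (CommRingCat.of k) := inferInstanceAs (IsArtinianRing k)
  haveI : IsLocallyArtinian (Spec (CommRingCat.of k)) := Scheme.isLocallyArtinianScheme_Spec.2 inferInstance
  haveI : IsLocallyArtinian J.subscheme := IsLocallyArtinian.of_locallyQuasiFinite (J.subschemeι ≫ f)
  obtain ⟨z, rfl⟩ : x ∈ Set.range J.subschemeι := hJ ▸ hx
  rw [← Set.image_singleton]
  exact J.subschemeι.isClosedEmbedding.isClosedMap _ (isClosed_discrete _)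

end Groth.Agent.LefAmpleLib
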