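import Groth.Agent.LefAmpleLib.QuotMap
import Groth.Agent.H1ZeroLib.Quot
import Groth.Agent.IdealStalkLib.Comap
import Groth.Agent.DCohLib.StalkRestrictFree
import Groth.Agent.DCohLib.Restrict
import Groth.Agent.EtAlgEasy.PrinPartSym

/-!
# Transporting the Lefschetz bijection to an open subscheme
-/

set_option autoImplicit false
set_option backward.isDefEq.respectTransparency false
set_option backward.isDefEq.respectTransparency.types false
set_option linter.style.haveILetI false

universe u

open CategoryTheory CategoryTheory.Limits AlgebraicGeometry TopologicalSpace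
open Groth.Agent.PullbackMod

noncomputable section

namespace Groth.Agent.LefAmpleLib

variable {X Y : Scheme.{u}} (j : X ⟶ Y) [IsOpenImmersion j]

local notation "R" => Scheme.Modules.restrictFunctor j

/-- The restriction of the structure sheaf. -/
def resUnit : (R).obj (Coh.structureModule Y) ≅ Coh.structureModule X := Scheme.Modules.restrictUnitIso j

/-- The restriction of `O → O/K`, out of the structure sheaf of the open subscheme. -/
def resToSub (K : Y.IdealSheafData) : Coh.structureModule X ⟶ (R).obj (ClSub.quotMod K) :=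
  (resUnit j).inv ≫ (R).map (ClSub.toSubscheme K)

theorem stalkLin_resToSub_eq_zero_iff (K : Y.IdealSheafData) (x : X) (z : (Coh.structureModule X).presheaf.stalk x) :
    stalkLin (resToSub j K) x z = 0 ↔ stalkLin (ClSub.toSubscheme (K.comap j)) x z = 0 := by
  obtain ⟨c, rfl⟩ := (ParaFLib.bijective_oneG x).2 z
  let σ := (asIso (j.stalkMap x)).commRingCatIsoToRingEquiv
  let e : ∀ M : Y.Modules, ((R).obj M).presheaf.stalk x ≃+ M.presheaf.stalk (j x) := fun M =>
    ((Scheme.Modules.restrictStalkNatIso j x).app M).addCommGroupIsoToAddEquiv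
  have he : ∀ (M : Y.Modules) (a : X.presheaf.stalk x) (m : ((R).obj M).presheaf.stalk x),
      e M (a • m) = σ.symm a • e M m := fun M => DCohLib.restrictStalk_smul j M x
  let u := resUnit j
  let w := stalkLin u.inv x (ParaFLib.oneG x)
  obtain ⟨a, ha⟩ := (ParaFLib.bijective_oneG (j x)).2 (e _ w)
  change a • ParaFLib.oneG (j x) = _ at ha
  have hau : IsUnit a := by
    obtain ⟨v, hv⟩ := ((isIso_iff_stalk u.inv).1 inferInstance x).2 ((e _).symm (ParaFLib.oneG (j x)))
    obtain ⟨b, rfl⟩ := (ParaFLib.bijective_oneG x).2 v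
    have h1 : e _ (b • w) = ParaFLib.oneG (j x) := by
      rw [← map_smul (stalkLin u.inv x)]
      exact (congrArg (e _) hv).trans ((e _).apply_symm_apply _)
    rw [he, ← ha, smul_smul] at h1
    exact .of_mul_eq_one_right _ ((ParaFLib.bijective_oneG (j x)).1 (h1.trans (one_smul _ _).symm))
  have hnat : ∀ m, e _ (stalkLin ((R).map (ClSub.toSubscheme K)) x m) =
      stalkLin (ClSub.toSubscheme K) (j x) (e _ m) := fun m =>
    ConcreteCategory.congr_hom ((Scheme.Modules.restrictStalkNatIso j x).hom.naturality (ClSub.toSubscheme K)) m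
  have h2 : e _ (stalkLin (resToSub j K) x (c • ParaFLib.oneG x)) = H1ZeroLib.qv K (j x) (σ.symm c * a) := by
    rw [resToSub, stalkLin_comp, LinearMap.comp_apply, hnat, map_smul, he, ← ha, smul_smul]
    rfl
  rw [← (e _).map_eq_zero_iff, h2, H1ZeroLib.qv_eq_zero_iff]
  refine Iff.trans ?_ (H1ZeroLib.qv_eq_zero_iff _ x c).symm
  rw [Ideal.mul_unit_mem_iff_mem _ hau, IdealStalkLib.stalkIdeal_comap,
    Ideal.mem_map_iff_of_surjective (j.stalkMap x).hom σ.surjective]
  exact ⟨fun h => ⟨_, h, σ.apply_symm_apply c⟩, fun ⟨b, hb, hbc⟩ => by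
    rw [← hbc]; exact (σ.symm_apply_apply b).symm ▸ hb⟩

theorem kernel_comp_eq_zero {A B C : X.Modules} (f : A ⟶ B) (g : A ⟶ C)
    (h : ∀ x z, stalkLin f x z = 0 → stalkLin g x z = 0) : kernel.ι f ≫ g = 0 := by
  refine hom_ext_stalk fun x => LinearMap.ext fun n => ?_
  rw [stalkLin_comp, LinearMap.comp_apply, DevLib.stalkLin_zero, LinearMap.zero_apply]
  exact h x _ (HilbObsLib.stalk_kernel_ι_comp f x n)

instance epi_resToSub (K : Y.IdealSheafData) : Epi (resToSub j K) := by
  haveI := HilbObsLib.epi_toSubscheme K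
  unfold resToSub
  infer_instance

theorem exists_quotIso (K : Y.IdealSheafData) {K' : X.IdealSheafData} (h : K.comap j = K') :
    ∃ θ : (R).obj (ClSub.quotMod K) ≅ ClSub.quotMod K', resToSub j K ≫ θ.hom = ClSub.toSubscheme K' := by
  subst h
  haveI := HilbObsLib.epi_toSubscheme (K.comap j)
  let a := Abelian.epiDesc (resToSub j K) (ClSub.toSubscheme (K.comap j))
    (kernel_comp_eq_zero _ _ fun x z => (stalkLin_resToSub_eq_zero_iff j K x z).1)
  let b := Abelian.epiDesc (ClSub.toSubscheme (K.comap j)) (resToSub j K)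
    (kernel_comp_eq_zero _ _ fun x z => (stalkLin_resToSub_eq_zero_iff j K x z).2)
  refine ⟨⟨a, b, ?_, ?_⟩, Abelian.comp_epiDesc _ _ _⟩
  · rw [← cancel_epi (resToSub j K), Category.comp_id, Abelian.comp_epiDesc_assoc, Abelian.comp_epiDesc]
  · rw [← cancel_epi (ClSub.toSubscheme (K.comap j)), Category.comp_id, Abelian.comp_epiDesc_assoc, Abelian.comp_epiDesc]

/-- The Lefschetz bijection passes to an open subscheme on which all relevant maps restrict bijectively. -/
theorem homToFormalBijective_restrict (I : Y.IdealSheafData) (M : Y.Modules) {D : X.Modules}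
    (e : (R).obj M ≅ D)
    (hO : Function.Bijective (fun φ : M ⟶ Coh.structureModule Y => (R).map φ))
    (hQ : ∀ n, Function.Bijective (fun φ : M ⟶ ClSub.quotMod (I ^ (n + 1)) => (R).map φ))
    (h : Lef.HomToFormalBijective I M) : Lef.HomToFormalBijective (I.comap j) D := by
  let u := resUnit j
  choose θ hθ using fun n : ℕ => exists_quotIso j (I ^ (n + 1)) (EtAlgEasy.PrinPartSym.comap_pow j I n)
  have hθ' : ∀ n, (R).map (ClSub.toSubscheme (I ^ (n + 1))) ≫ (θ n).hom =
      u.hom ≫ ClSub.toSubscheme ((I.comap j) ^ (n + 1)) := fun n => by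
    rw [← hθ n, resToSub, Category.assoc, Iso.hom_inv_id_assoc]
  have hq : ∀ n, (θ (n + 1)).hom ≫ Lef.quotMap (Lef.pow_succ_le (I.comap j) n) =
      (R).map (Lef.quotMap (Lef.pow_succ_le I n)) ≫ (θ n).hom := fun n => by
    haveI := HilbObsLib.epi_toSubscheme (I ^ (n + 2))
    rw [← cancel_epi ((R).map (ClSub.toSubscheme (I ^ (n + 2)))), ← Category.assoc, hθ' (n + 1), Category.assoc,
      toSubscheme_quotMap, ← Functor.map_comp_assoc, toSubscheme_quotMap, hθ']
  refine ⟨fun φ ψ hφψ => ?_, fun y hy => ?_⟩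
  · obtain ⟨φ', hφ'⟩ := hO.2 (e.hom ≫ φ ≫ u.inv)
    obtain ⟨ψ', hψ'⟩ := hO.2 (e.hom ≫ ψ ≫ u.inv)
    simp only at hφ' hψ'
    have : φ' = ψ' := h.1 φ' ψ' fun n => (hQ n).1 (by
      simp only [Functor.map_comp, hφ', hψ']
      rw [← cancel_mono (θ n).hom]
      simp only [Category.assoc, hθ' n, Iso.inv_hom_id_assoc, hφψ n])
    rw [this, hψ'] at hφ'
    exact ((cancel_mono u.inv).1 ((cancel_epi e.hom).1 hφ')).symm
  · choose z hz using fun n => (hQ n).2 (e.hom ≫ y n ≫ (θ n).inv)
    simp only at hz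
    obtain ⟨φ, hφ⟩ := h.2 z fun n => (hQ n).1 (by
      show (R).map _ = (R).map _
      rw [Functor.map_comp, hz, hz, ← cancel_mono (θ n).hom]
      simp only [Category.assoc, ← hq n, Iso.inv_hom_id_assoc, Iso.inv_hom_id, Category.comp_id, hy n])
    refine ⟨e.inv ≫ (R).map φ ≫ u.hom, fun n => ?_⟩
    rw [Category.assoc, Category.assoc, ← hθ' n, ← Functor.map_comp_assoc, hφ n, hz]
    simp

end Groth.Agent.LefAmpleLib
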