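import Groth.Prelude.Def_FSch3
import Groth.Prelude.Def_LefX

/-!
# The two presentations of the completion of a module have the same transition isomorphisms
-/

set_option autoImplicit false
set_option maxHeartbeats 400000
set_option backward.isDefEq.respectTransparency false
set_option backward.isDefEq.respectTransparency.types false

universe u

open CategoryTheory AlgebraicGeometry

seal AlgebraicGeometry.Scheme.Modules.pullbackComp AlgebraicGeometry.Scheme.Modules.pullbackCongr AlgebraicGeometry.Scheme.Modules.pullback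

namespace Groth.Agent.LefAmpleLib

theorem completionι_comp {X : Scheme.{u}} (𝓘 : X.IdealSheafData) (n : ℕ) :
    (FSch.completionAlong X 𝓘).ι n ≫ FSch.completionToX X 𝓘 (n + 1) = FSch.completionToX X 𝓘 n :=
  Scheme.IdealSheafData.inclusion_subschemeι (FSch.pow_succ_le X 𝓘 n)

theorem complTransIso_eq {X : Scheme.{u}} (𝓘 : X.IdealSheafData) (n : ℕ) :
    FSch.complTransIso 𝓘 n = Scheme.Modules.pullbackComp ((FSch.completionAlong X 𝓘).ι n)
        (FSch.completionToX X 𝓘 (n + 1)) ≪≫ Scheme.Modules.pullbackCongr (completionι_comp 𝓘 n) := rfl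

theorem pullbackComp_inclusion_eq {X : Scheme.{u}} (𝓘 : X.IdealSheafData) (n : ℕ) :
    Scheme.Modules.pullbackComp ((FSch.completionAlong X 𝓘).ι n)
        (FSch.completionToX X 𝓘 (n + 1)) ≪≫ Scheme.Modules.pullbackCongr (completionι_comp 𝓘 n) =
    Scheme.Modules.pullbackComp (Scheme.IdealSheafData.inclusion (FSch.pow_succ_le X 𝓘 n))
        (FSch.completionToX X 𝓘 (n + 1)) ≪≫
      Scheme.Modules.pullbackCongr (Scheme.IdealSheafData.inclusion_subschemeι (FSch.pow_succ_le X 𝓘 n)) :=
  rfl

theorem completionMod_e_eq {X : Scheme.{u}} (𝓘 : X.IdealSheafData) (F : X.Modules) (n : ℕ) :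
    (FSch.completionMod 𝓘 F).e n =
      (Scheme.Modules.pullbackComp (Scheme.IdealSheafData.inclusion (FSch.pow_succ_le X 𝓘 n))
        (FSch.completionToX X 𝓘 (n + 1))).app F ≪≫
      (Scheme.Modules.pullbackCongr (Scheme.IdealSheafData.inclusion_subschemeι (FSch.pow_succ_le X 𝓘 n))).app F :=
  rfl

theorem app_trans {P Q X : Scheme.{u}} (i : P ⟶ Q) (c : Q ⟶ X) (d : P ⟶ X) (hi : i ≫ c = d) (F : X.Modules) :
    (Scheme.Modules.pullbackComp i c ≪≫ Scheme.Modules.pullbackCongr hi).app F =
      (Scheme.Modules.pullbackComp i c).app F ≪≫ (Scheme.Modules.pullbackCongr hi).app F := Iso.ext rfl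

theorem completionMod_e {X : Scheme.{u}} (𝓘 : X.IdealSheafData) (F : X.Modules) (n : ℕ) :
    (FSch.completionMod 𝓘 F).e n = (FSch.complTransIso 𝓘 n).app F :=
  ((completionMod_e_eq 𝓘 F n).trans
    (app_trans (Scheme.IdealSheafData.inclusion (FSch.pow_succ_le X 𝓘 n)) (FSch.completionToX X 𝓘 (n + 1))
      (FSch.completionToX X 𝓘 n) (Scheme.IdealSheafData.inclusion_subschemeι (FSch.pow_succ_le X 𝓘 n)) F).symm).trans
    (congrArg (fun t => t.app F) ((complTransIso_eq 𝓘 n).trans (pullbackComp_inclusion_eq 𝓘 n))).symm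

end Groth.Agent.LefAmpleLib
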