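import Groth.Agent.FExistLib.Equiv
import Groth.Agent.FormalFreeLib.Basic
import Groth.Agent.PBundleLib.Coev
import Groth.Agent.DCohLib.OpenD
import Groth.Agent.DCohLib.Restrict
import Groth.Agent.PuncSecLib.Algebraize
import Groth.Agent.RelPCLib.Module
import Groth.Agent.LefAmpleLib.CompletionMod
import Groth.Prelude.Def_LefX

/-!
# Algebraization of locally free systems on the completion of a punctured spectrum
-/

set_option autoImplicit false
set_option backward.isDefEq.respectTransparency false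
set_option backward.isDefEq.respectTransparency.types false
set_option linter.style.haveILetI false
set_option maxHeartbeats 1000000

universe u

open CategoryTheory CategoryTheory.Limits AlgebraicGeometry TopologicalSpace Opposite
open scoped TensorProduct

noncomputable section

namespace Groth.Agent.LefAmpleLib

/-- A locally free module on a closed subscheme looks locally on the ambient scheme like a free one. -/
theorem exists_restrict_push_iso {Z X : Scheme.{u}} (f : Z ⟶ X) [IsClosedImmersion f] {M : Z.Modules}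
    (hM : FlatMod.IsFinLocFree M) (x : X) :
    ∃ (V : X.Opens) (r : ℕ), x ∈ V ∧
      Nonempty ((Scheme.Modules.restrictFunctor V.ι).obj ((Scheme.Modules.pushforward f).obj M) ≅
        (Scheme.Modules.restrictFunctor V.ι).obj ((Scheme.Modules.pushforward f).obj (FlatMod.freeMod Z r))) := by
  suffices h : ∃ (V : X.Opens) (r : ℕ), x ∈ V ∧
      Nonempty ((Scheme.Modules.restrictFunctor (f ⁻¹ᵁ V).ι).obj M ≅
        (Scheme.Modules.restrictFunctor (f ⁻¹ᵁ V).ι).obj (FlatMod.freeMod Z r)) by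
    obtain ⟨V, r, hx, ⟨i⟩⟩ := h
    exact ⟨V, r, hx, ⟨(DCohLib.restrictPushIso f V).app M ≪≫ (Scheme.Modules.pushforward (f ∣_ V)).mapIso i ≪≫
      ((DCohLib.restrictPushIso f V).app (FlatMod.freeMod Z r)).symm⟩⟩
  by_cases hx : x ∈ Set.range f
  · obtain ⟨z, rfl⟩ := hx
    obtain ⟨W, r, hz, ⟨i⟩⟩ := hM z
    obtain ⟨V, hV, hW⟩ := f.isClosedEmbedding.isInducing.isOpen_iff.1 W.2
    obtain rfl : f ⁻¹ᵁ ⟨V, hV⟩ = W := Opens.ext hW
    exact ⟨⟨V, hV⟩, r, hz, ⟨i ≪≫ (DCohLib.restrictFreeMod _ r).symm⟩⟩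
  · let V : X.Opens := ⟨(Set.range f)ᶜ, f.isClosedEmbedding.isClosed_range.isOpen_compl⟩
    haveI : IsEmpty (f ⁻¹ᵁ V : Z.Opens).toScheme := ⟨fun z => z.2 ⟨z.1, rfl⟩⟩
    refine ⟨V, 0, hx, ⟨@asIso _ _ _ _ 0 ((PullbackMod.isIso_iff_stalk _).2 fun z => isEmptyElim z)⟩⟩

section Tower

variable {A : Type u} [CommRing A] {J : Ideal A} {X : Scheme.{u}} [X.Over (Spec (CommRingCat.of A))]
  {𝓘 : X.IdealSheafData} [AlgebraicGeometry.IsNoetherian X]
  (h𝓘 : 𝓘 = (FSch.idealSpec A J).comap (X ↘ Spec (CommRingCat.of A)))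

include h𝓘 in
theorem isFinLocFreeMod_tower (𝔐 : FSch.ModSys (FSch.completionAlong X 𝓘)) (n : ℕ)
    (h : FlatMod.IsFinLocFree (𝔐.F n)) :
    Formal2.IsFinLocFreeMod J (n + 1) ((FExist.tower 𝓘 𝔐).obj (op n)) := by
  intro x
  obtain ⟨V, r, hx, ⟨i⟩⟩ := exists_restrict_push_iso (FSch.completionToX X 𝓘 n) h x
  obtain ⟨β, -⟩ := FExist.exists_completion_iso_tower h𝓘
    (CurveLib.isCoh_of_isFinLocFree (DCohLib.isFinLocFree_freeMod (Y := X) r))
  obtain ⟨p⟩ := PBundleLib.nonempty_pullback_free (FSch.completionToX X 𝓘 n) r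
  let e : Formal.modPow J (n + 1) (FlatMod.freeMod X r) ≅
      (Scheme.Modules.pushforward (FSch.completionToX X 𝓘 n)).obj
        (FlatMod.freeMod ((FSch.completionAlong X 𝓘).X n) r) :=
    β.app (op n) ≪≫ (Scheme.Modules.pushforward (FSch.completionToX X 𝓘 n)).mapIso p
  exact ⟨V, r, hx, ⟨i ≪≫ (Scheme.Modules.restrictFunctor V.ι).mapIso e.symm⟩⟩

end Tower

/-- The two presentations of a completion agree. -/
theorem nonempty_completionMod_iso {X : Scheme.{u}} (𝓘 : X.IdealSheafData) (F : X.Modules) :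
    Nonempty (FSch.completionMod 𝓘 F ≅ FSch.complMod 𝓘 F) := by
  refine ⟨⟨⟨fun n => 𝟙 _, fun n => ?_⟩, ⟨fun n => 𝟙 _, fun n => ?_⟩, ?_, ?_⟩⟩
  · refine ((congrArg (· ≫ _) (CategoryTheory.Functor.map_id _ _)).trans (Category.id_comp _)).trans ?_
    exact ((congrArg Iso.hom (completionMod_e 𝓘 F n)).symm).trans (Category.comp_id _).symm
  · refine ((congrArg (· ≫ _) (CategoryTheory.Functor.map_id _ _)).trans (Category.id_comp _)).trans ?_
    exact (congrArg Iso.hom (completionMod_e 𝓘 F n)).trans (Category.comp_id _).symm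
  · exact FSch.ModSys.Hom.ext (funext fun n => Category.id_comp _)
  · exact FSch.ModSys.Hom.ext (funext fun n => Category.id_comp _)

/-- A map which is invertible on an open containing the levels gives an isomorphism of completions. -/
theorem isIso_pullback_map_completion {X : Scheme.{u}} (𝓘 : X.IdealSheafData) (U : X.Opens)
    (hU : (𝓘.support : Set X) ⊆ (U : Set X)) {F G : X.Modules} (φ : F ⟶ G)
    [IsIso ((Scheme.Modules.restrictFunctor U.ι).map φ)] (n : ℕ) :
    IsIso ((Scheme.Modules.pullback (FSch.completionToX X 𝓘 n)).map φ) := by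
  have hr : Set.range (FSch.completionToX X 𝓘 n) ⊆ Set.range U.ι := by
    rw [U.range_ι]
    refine (le_of_eq ((𝓘 ^ (n + 1)).range_subschemeι)).trans ?_
    rw [Scheme.IdealSheafData.support_pow_succ]
    exact hU
  let g := IsOpenImmersion.lift U.ι (FSch.completionToX X 𝓘 n) hr
  haveI : IsIso ((Scheme.Modules.pullback U.ι).map φ) :=
    (NatIso.isIso_map_iff (Scheme.Modules.restrictFunctorIsoPullback U.ι) φ).1 inferInstance
  haveI : IsIso ((Scheme.Modules.pullback U.ι ⋙ Scheme.Modules.pullback g).map φ) :=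
    inferInstanceAs (IsIso ((Scheme.Modules.pullback g).map ((Scheme.Modules.pullback U.ι).map φ)))
  exact (NatIso.isIso_map_iff (Scheme.Modules.pullbackComp g U.ι ≪≫
    Scheme.Modules.pullbackCongr (IsOpenImmersion.lift_fac U.ι _ hr)) φ).1 inferInstance

/-- The completion only depends on a neighbourhood of the closed subset. -/
theorem nonempty_completionMod_push_iso {X : Scheme.{u}} (𝓘 : X.IdealSheafData) (U : X.Opens)
    (hU : (𝓘.support : Set X) ⊆ (U : Set X)) (F : X.Modules) :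
    Nonempty (FSch.completionMod 𝓘 ((Scheme.Modules.pushforward U.ι).obj
        ((Scheme.Modules.restrictFunctor U.ι).obj F)) ≅ FSch.complMod 𝓘 F) := by
  let adj := Scheme.Modules.restrictAdjunction U.ι
  let G := (Scheme.Modules.pushforward U.ι).obj ((Scheme.Modules.restrictFunctor U.ι).obj F)
  let η : F ⟶ G := adj.unit.app F
  haveI : IsIso (adj.counit.app ((Scheme.Modules.restrictFunctor U.ι).obj F)) := inferInstance
  haveI : IsIso ((Scheme.Modules.restrictFunctor U.ι).map η) :=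
    IsIso.of_isIso_fac_right (adj.left_triangle_components F)
  haveI := isIso_pullback_map_completion 𝓘 U hU η
  let f := FSch.complModMap 𝓘 η
  haveI : ∀ n, IsIso (f.app n) := fun n =>
    inferInstanceAs (IsIso ((Scheme.Modules.pullback (FSch.completionToX X 𝓘 n)).map η))
  let g : FSch.complMod 𝓘 G ⟶ FSch.complMod 𝓘 F :=
    ⟨fun n => inv ((Scheme.Modules.pullback (FSch.completionToX X 𝓘 n)).map η), fun n => by
      rw [Functor.map_inv, IsIso.inv_comp_eq, ← Category.assoc, IsIso.eq_comp_inv]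
      exact (f.comm n).symm⟩
  obtain ⟨a⟩ := nonempty_completionMod_iso 𝓘 G
  exact ⟨a ≪≫ ⟨g, f, FSch.ModSys.Hom.ext (funext fun n => IsIso.inv_hom_id _),
    FSch.ModSys.Hom.ext (funext fun n => IsIso.hom_inv_id _)⟩⟩

section Free

/-- The rank of a free base change to a quotient by an ideal in the radical. -/
theorem rank_eq {R : Type u} [CommRing R] [IsLocalRing R] (M : Type u) [AddCommGroup M] [Module R M]
    {S T : Type u} [CommRing S] [CommRing T] [Algebra R S] [Algebra R T]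
    (hS : Function.Surjective (algebraMap R S)) (hS' : RingHom.ker (algebraMap R S) ≤ IsLocalRing.maximalIdeal R)
    (hT : Function.Surjective (algebraMap R T)) (hT' : RingHom.ker (algebraMap R T) ≤ IsLocalRing.maximalIdeal R)
    {r s : ℕ} (e : S ⊗[R] M ≃ₗ[S] (Fin r → S)) (e' : T ⊗[R] M ≃ₗ[T] (Fin s → T)) : r = s := by
  let k := IsLocalRing.ResidueField R
  have key : ∀ {S : Type u} [CommRing S] [Algebra R S], Function.Surjective (algebraMap R S) →
      RingHom.ker (algebraMap R S) ≤ IsLocalRing.maximalIdeal R → ∀ {r : ℕ}, (S ⊗[R] M ≃ₗ[S] (Fin r → S)) →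
      Module.finrank k (k ⊗[R] M) = r := by
    intro S _ _ hS hS' r e
    let φ : S →+* k := (algebraMap R S).liftOfSurjective hS ⟨IsLocalRing.residue R, fun a ha =>
      (Ideal.Quotient.eq_zero_iff_mem.2 (hS' ha))⟩
    letI : Algebra S k := φ.toAlgebra
    haveI : IsScalarTower R S k := IsScalarTower.of_algebraMap_eq fun a =>
      ((algebraMap R S).liftOfRightInverse_comp_apply _ (Function.rightInverse_surjInv hS)
        ⟨IsLocalRing.residue R, fun a ha => (Ideal.Quotient.eq_zero_iff_mem.2 (hS' ha))⟩ a).symm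
    let E : k ⊗[R] M ≃ₗ[k] (Fin r → k) :=
      (TensorProduct.AlgebraTensorModule.cancelBaseChange R S k k M).symm.trans
        ((e.baseChange S k).trans (TensorProduct.piScalarRight S k k (Fin r)))
    rw [E.finrank_eq, Module.finrank_fin_fun]
  exact (key hS hS' e).symm.trans (key hT hT' e')

variable {X : Scheme.{u}} [IsLocallyNoetherian X]

/-- Local freeness at a point is detected on the infinitesimal neighbourhoods. -/
theorem exists_freeAt_of_levels {F : X.Modules} (hF : Coh.IsCoh F) (K : X.IdealSheafData)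
    (h : ∀ n : ℕ, FlatMod.IsFinLocFree ((Scheme.Modules.pullback (K ^ (n + 1)).subschemeι).obj F))
    {x : X} (hx : x ∈ K.support) : ∃ r : ℕ, PullbackMod.FreeAt r F x := by
  haveI := hF.1
  haveI := FlatLocus.finite_stalk F (QCohLib.isFP_of_isCoh F hF) x
  have hz : ∀ n, ∃ z : (K ^ (n + 1)).subscheme, (K ^ (n + 1)).subschemeι z = x := fun n => by
    have : x ∈ Set.range (K ^ (n + 1)).subschemeι.base := by
      rw [Scheme.IdealSheafData.range_subschemeι, Scheme.IdealSheafData.support_pow_succ]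
      exact hx
    exact this
  choose z hz using hz
  letI : ∀ n, Algebra (X.presheaf.stalk x) ((K ^ (n + 1)).subscheme.presheaf.stalk (z n)) :=
    fun n => (FormalFree.ψ (K ^ (n + 1)) (z n) (hz n)).hom.toAlgebra
  have hr : ∀ n, ∃ r, PullbackMod.FreeAt r ((Scheme.Modules.pullback (K ^ (n + 1)).subschemeι).obj F) (z n) :=
    fun n => by
      haveI := PullbackMod.isQCoh_pullback (K ^ (n + 1)).subschemeι F
      obtain ⟨U, r, hxU, ⟨i⟩⟩ := h n (z n)
      exact ⟨r, PullbackMod.freeAt_of_restrict_iso _ i hxU⟩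
  choose r hr using hr
  have hsur : ∀ n, Function.Surjective (FormalFree.ψ (K ^ (n + 1)) (z n) (hz n)) := fun n =>
    (FormalFree.ψ_spec F (r := r n) _ (z n) (hz n)).1
  have hker : ∀ n, RingHom.ker (FormalFree.ψ (K ^ (n + 1)) (z n) (hz n)).hom =
      IntMult.stalkIdeal K x ^ (n + 1) := fun n =>
    (FormalFree.ψ_spec F (r := r n) _ (z n) (hz n)).2.1.trans (FormalFree.stalkIdeal_pow K (n + 1) x)
  have hle : ∀ n, IntMult.stalkIdeal K x ^ (n + 1) ≤ IsLocalRing.maximalIdeal (X.presheaf.stalk x) := fun n =>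
    (Ideal.pow_le_self n.succ_ne_zero).trans (IdealStalkLib.stalkIdeal_le_maximal K hx)
  choose e _ using fun n => (⟨(FormalFree.ψ_spec F _ (z n) (hz n)).2.2 (hr n), trivial⟩ :
    ∃ _ : Nonempty ((K ^ (n + 1)).subscheme.presheaf.stalk (z n) ⊗[X.presheaf.stalk x] F.presheaf.stalk x
      ≃ₗ[(K ^ (n + 1)).subscheme.presheaf.stalk (z n)] (Fin (r n) → (K ^ (n + 1)).subscheme.presheaf.stalk (z n))),
      True)
  have hrn : ∀ n, r n = r 0 := fun n => rank_eq (F.presheaf.stalk x) (hsur n) ((hker n).le.trans (hle n))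
    (hsur 0) ((hker 0).le.trans (hle 0)) (e n).some (e 0).some
  refine ⟨r 0, FormalFree.free_of_forall_pow (IntMult.stalkIdeal K x)
    ((IdealStalkLib.stalkIdeal_le_maximal K hx).trans (IsLocalRing.maximalIdeal_le_jacobson _))
    (F.presheaf.stalk x) (r 0) (fun n => (K ^ (n + 1)).subscheme.presheaf.stalk (z n)) hsur hker fun n => ?_⟩
  rw [← hrn n]
  exact e n

end Free

open Groth.Agent.PuncSecLib in
/-- Algebraization of a levelwise locally free system on the completion of a punctured spectrum. -/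
theorem exists_locFree_algebraization {A : Type u} [CommRing A] [IsNoetherianRing A] (𝔞 : Ideal A) (t : A)
    (hnzd : t ∈ nonZeroDivisors A) [IsAdicComplete (Ideal.span {t}) A]
    (h₁ : Module.Finite A (LocCoh.H 𝔞 1 (A ⧸ Ideal.span {t})))
    (h₂ : Module.Finite A (LocCoh.H 𝔞 2 (A ⧸ Ideal.span {t})))
    (𝔐 : FSch.ModSys (FSch.completionAlong (LocCoh.puncturedOpen A 𝔞 : Scheme.{u})
      ((Spec.map (CommRingCat.ofHom (Ideal.Quotient.mk (Ideal.span {t})))).ker.comap
        (LocCoh.puncturedOpen A 𝔞).ι)))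
    (h : LefX.LevelwiseFinLocFree 𝔐) :
    ∃ (U : (LocCoh.puncturedOpen A 𝔞 : Scheme.{u}).Opens) (E : (U : Scheme.{u}).Modules),
      ((((Spec.map (CommRingCat.ofHom (Ideal.Quotient.mk (Ideal.span {t})))).ker.comap
        (LocCoh.puncturedOpen A 𝔞).ι)).support : Set (LocCoh.puncturedOpen A 𝔞 : Scheme.{u})) ⊆ (U : Set _) ∧
      FlatMod.IsFinLocFree E ∧
      Nonempty (FSch.completionMod ((Spec.map (CommRingCat.ofHom (Ideal.Quotient.mk (Ideal.span {t})))).ker.comap
        (LocCoh.puncturedOpen A 𝔞).ι) ((Scheme.Modules.pushforward U.ι).obj E) ≅ 𝔐) := by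
  let X := LocCoh.puncturedOpen A 𝔞
  haveI : NoetherianSpace (Spec (CommRingCat.of A)) := inferInstanceAs (NoetherianSpace (PrimeSpectrum A))
  haveI : CompactSpace (X : Scheme.{u}) :=
    isCompact_iff_compactSpace.1 (NoetherianSpace.isCompact (X : Set (Spec (CommRingCat.of A))))
  haveI : IsLocallyNoetherian (X : Scheme.{u}) := isLocallyNoetherian_of_isOpenImmersion X.ι
  haveI : AlgebraicGeometry.IsNoetherian (X : Scheme.{u}) := AlgebraicGeometry.IsNoetherian.mk
  let 𝓘 := (Spec.map (CommRingCat.ofHom (Ideal.Quotient.mk (Ideal.span {t})))).ker.comap X.ι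
  have h𝓘 : 𝓘 = (FSch.idealSpec A (Ideal.span {t})).comap ((X : Scheme.{u}) ↘ Spec (CommRingCat.of A)) := rfl
  have hcoh : 𝔐.IsCoh := fun n =>
    haveI : IsLocallyNoetherian ((FSch.completionAlong (X : Scheme.{u}) 𝓘).X n) :=
      LocallyOfFiniteType.isLocallyNoetherian (FSch.completionToX (X : Scheme.{u}) 𝓘 n)
    CurveLib.isCoh_of_isFinLocFree (h n)
  obtain ⟨F, hF, ⟨c⟩⟩ := algebraization_principal hnzd h₁ h₂ (FExist.isCohFormal_tower h𝓘 𝔐 hcoh)
    fun n => isFinLocFreeMod_tower h𝓘 𝔐 n (h n)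
  obtain ⟨β, -⟩ := FExist.exists_completion_iso_tower h𝓘 hF
  obtain ⟨a⟩ := FExist.nonempty_iso_of_tower (β.symm ≪≫ c)
  haveI := hF.1
  have hFP := QCohLib.isFP_of_isCoh F hF
  let U : (X : Scheme.{u}).Opens := ⟨⋃ r : ℕ, {x | PullbackMod.FreeAt r F x},
    isOpen_iUnion fun r => PullbackMod.isOpen_freeAt F hFP r⟩
  have hlev : ∀ n, FlatMod.IsFinLocFree ((Scheme.Modules.pullback (𝓘 ^ (n + 1)).subschemeι).obj F) := fun n =>
    DCohLib.isFinLocFree_iso ⟨a.inv.app n, a.hom.app n, congrArg (fun φ => φ.app n) a.inv_hom_id,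
      congrArg (fun φ => φ.app n) a.hom_inv_id⟩ (h n)
  have hsub : (𝓘.support : Set (X : Scheme.{u})) ⊆ (U : Set _) := fun x hx =>
    Set.mem_iUnion.2 (exists_freeAt_of_levels hF 𝓘 hlev hx)
  refine ⟨U, (Scheme.Modules.restrictFunctor U.ι).obj F, hsub, fun y => ?_, ?_⟩
  · obtain ⟨r, hr⟩ := Set.mem_iUnion.1 y.2
    obtain ⟨V, hyV, ⟨i⟩⟩ := PullbackMod.exists_nhd_freeAt F hFP hr
    let W : (U : Scheme.{u}).Opens := U.ι ⁻¹ᵁ V
    obtain ⟨k, hk⟩ : ∃ k : (W : Scheme.{u}) ⟶ (V : Scheme.{u}), k ≫ V.ι = W.ι ≫ U.ι :=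
      ⟨IsOpenImmersion.lift V.ι (W.ι ≫ U.ι) (by
        rw [V.range_ι]; rintro _ ⟨w, rfl⟩; exact w.2), IsOpenImmersion.lift_fac _ _ _⟩
    haveI : IsOpenImmersion k := by
      haveI : IsOpenImmersion (k ≫ V.ι) := hk ▸ inferInstance
      exact IsOpenImmersion.of_comp k V.ι
    exact ⟨W, r, hyV, ⟨((Scheme.Modules.restrictFunctorComp W.ι U.ι).symm ≪≫
      Scheme.Modules.restrictFunctorCongr hk.symm ≪≫ Scheme.Modules.restrictFunctorComp k V.ι).app F ≪≫
      (Scheme.Modules.restrictFunctor k).mapIso i ≪≫ DCohLib.restrictFreeMod k r⟩⟩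
  · obtain ⟨b⟩ := nonempty_completionMod_push_iso 𝓘 U hsub F
    exact ⟨b ≪≫ a⟩

end Groth.Agent.LefAmpleLib
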