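import Groth.Agent.LefAmpleLib.CompletionMod
import Groth.Agent.LefAmpleLib.Leff
import Groth.Agent.PuncSecLib.AlgebraizeRegular
import Groth.Agent.PuncSecLib.RegularLevels
import Groth.Agent.S5756

/-!
# Algebraization of regular systems of coherent modules on the completion of a punctured spectrum
-/

set_option autoImplicit false
set_option backward.isDefEq.respectTransparency false
set_option backward.isDefEq.respectTransparency.types false
set_option linter.style.haveILetI false
set_option maxHeartbeats 1000000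

universe u

open CategoryTheory CategoryTheory.Limits AlgebraicGeometry TopologicalSpace Opposite
open Groth.Agent.PullbackMod

noncomputable section

namespace Groth.Agent.LefAmpleLib

/-- The depth of a direct image along a closed immersion. -/
theorem depth_push_closed {X P : Scheme.{u}} [IsLocallyNoetherian P] (ι : X ⟶ P) [IsClosedImmersion ι]
    {M : X.Modules} (hM : Coh.IsCoh M) (x : X) :
    LocCoh.depth (P.presheaf.stalk (ι x)) (((Scheme.Modules.pushforward ι).obj M).presheaf.stalk (ι x)) =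
      LocCoh.depth (X.presheaf.stalk x) (M.presheaf.stalk x) := by
  haveI : IsLocallyNoetherian X := LocallyOfFiniteType.isLocallyNoetherian ι
  haveI := hM.1
  haveI := finite_stalk_of_isFT hM.2 x
  letI : Algebra (P.presheaf.stalk (ι x)) (X.presheaf.stalk x) := (ι.stalkMap x).hom.toAlgebra
  letI : Module (P.presheaf.stalk (ι x)) (M.presheaf.stalk x) := Module.compHom _ (ι.stalkMap x).hom
  haveI : IsScalarTower (P.presheaf.stalk (ι x)) (X.presheaf.stalk x) (M.presheaf.stalk x) :=
    .of_algebraMap_smul fun _ _ => rfl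
  haveI : Module.Finite (P.presheaf.stalk (ι x)) (X.presheaf.stalk x) :=
    Module.Finite.of_surjective (Algebra.linearMap _ _) (ι.stalkMap_surjective x)
  haveI : Module.Finite (P.presheaf.stalk (ι x)) (M.presheaf.stalk x) :=
    Module.Finite.trans (X.presheaf.stalk x) _
  haveI : IsLocalHom (algebraMap (P.presheaf.stalk (ι x)) (X.presheaf.stalk x)) :=
    inferInstanceAs (IsLocalHom (ι.stalkMap x).hom)
  let e : ((Scheme.Modules.pushforward ι).obj M).presheaf.stalk (ι x) ≃ₗ[P.presheaf.stalk (ι x)]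
      M.presheaf.stalk x :=
    LinearEquiv.ofBijective
      ({ toFun := DCohLib.pushStalk ι M x
         map_add' := map_add _
         map_smul' := fun a z => DCohLib.pushStalk_smul ι M x a z } :
        ((Scheme.Modules.pushforward ι).obj M).presheaf.stalk (ι x) →ₗ[P.presheaf.stalk (ι x)] M.presheaf.stalk x)
      (DCohLib.bijective_pushStalk ι M x)
  rw [Depth.depth_congr e]
  exact S5756.result (P.presheaf.stalk (ι x)) (X.presheaf.stalk x) (M.presheaf.stalk x)

variable {A : Type u} [CommRing A] [IsNoetherianRing A]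

/-- The ideal sheaf of `t = 0` on a punctured spectrum. -/
abbrev idealP (𝔞 : Ideal A) (t : A) : (LocCoh.puncturedOpen A 𝔞 : Scheme.{u}).IdealSheafData :=
  (Spec.map (CommRingCat.ofHom (Ideal.Quotient.mk (Ideal.span {t})))).ker.comap (LocCoh.puncturedOpen A 𝔞).ι

/-- Algebraization of a regular coherent system of depth two at the relative points of codimension one. -/
theorem exists_coh_algebraization (B : Type u) [CommRing B] [IsRegularRing B] (φ : B →+* A)
    (hφ : Function.Surjective φ) (𝔞 : Ideal A) (t : A) [IsAdicComplete (Ideal.span {t}) A]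
    (𝔐 : FSch.ModSys (FSch.completionAlong (LocCoh.puncturedOpen A 𝔞 : Scheme.{u}) (idealP 𝔞 t))) (hcoh : 𝔐.IsCoh)
    (hreg : ∀ N : ℕ, 1 ≤ N → kernelSubobject (Formal.smulModΓ (𝔐.F N)
        (((FSch.completionToX (LocCoh.puncturedOpen A 𝔞 : Scheme.{u}) (idealP 𝔞 t) N) ≫
          (LocCoh.puncturedOpen A 𝔞).ι).appTop.hom ((Scheme.ΓSpecIso (CommRingCat.of A)).inv t) ^ N)) =
      imageSubobject (Formal.smulModΓ (𝔐.F N)
        (((FSch.completionToX (LocCoh.puncturedOpen A 𝔞 : Scheme.{u}) (idealP 𝔞 t) N) ≫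
          (LocCoh.puncturedOpen A 𝔞).ι).appTop.hom ((Scheme.ΓSpecIso (CommRingCat.of A)).inv t))))
    (hdepth : ∀ (y : ↥((FSch.completionAlong (LocCoh.puncturedOpen A 𝔞 : Scheme.{u}) (idealP 𝔞 t)).X 0))
      (q : PrimeSpectrum A), 𝔞 ≤ q.asIdeal →
      (show PrimeSpectrum A from (FSch.completionToX (LocCoh.puncturedOpen A 𝔞 : Scheme.{u}) (idealP 𝔞 t) 0 ≫
          (LocCoh.puncturedOpen A 𝔞).ι).base y) ⋖ q →
      (2 : ℕ∞) ≤ LocCoh.depth
        (((FSch.completionAlong (LocCoh.puncturedOpen A 𝔞 : Scheme.{u}) (idealP 𝔞 t)).X 0).presheaf.stalk y)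
        ((𝔐.F 0).presheaf.stalk y)) :
    ∃ F : (LocCoh.puncturedOpen A 𝔞 : Scheme.{u}).Modules, Coh.IsCoh F ∧
      Nonempty (FSch.completionMod (idealP 𝔞 t) F ≅ 𝔐) := by
  let X := LocCoh.puncturedOpen A 𝔞
  haveI : NoetherianSpace (Spec (CommRingCat.of A)) := inferInstanceAs (NoetherianSpace (PrimeSpectrum A))
  haveI : CompactSpace (X : Scheme.{u}) :=
    isCompact_iff_compactSpace.1 (NoetherianSpace.isCompact (X : Set (Spec (CommRingCat.of A))))
  haveI : IsLocallyNoetherian (X : Scheme.{u}) := isLocallyNoetherian_of_isOpenImmersion X.ι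
  haveI : AlgebraicGeometry.IsNoetherian (X : Scheme.{u}) := AlgebraicGeometry.IsNoetherian.mk
  let 𝓘 := idealP 𝔞 t
  have h𝓘 : 𝓘 = (FSch.idealSpec A (Ideal.span {t})).comap ((X : Scheme.{u}) ↘ Spec (CommRingCat.of A)) := rfl
  have hG := FExist.isCohFormal_tower h𝓘 𝔐 hcoh
  have hstalk : ∀ n x (z : ((FExist.tower 𝓘 𝔐).obj (op (n + 1))).presheaf.stalk x),
      PuncSecLib.gerT t x • z = 0 → ∃ w, z = PuncSecLib.gerT t x ^ (n + 1) • w := fun n x z hz =>
    PuncSecLib.exists_pow_smul_push (FSch.completionToX (X : Scheme.{u}) 𝓘 (n + 1))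
      (Coh.toGlobal ((X : Scheme.{u}) ↘ Spec (CommRingCat.of A)) t) (n + 1) (hreg (n + 1) n.succ_pos) x z hz
  obtain ⟨hΓ, hH2⟩ := PuncSecLib.finite_sections_of_depth B φ hφ _ (hG.1 0) fun x q hq hcov => by
    by_cases hx : x ∈ Set.range (FSch.completionToX (X : Scheme.{u}) 𝓘 0)
    · obtain ⟨y, rfl⟩ := hx
      refine (hdepth y q hq hcov).trans (ge_of_eq ?_)
      exact depth_push_closed (FSch.completionToX (X : Scheme.{u}) 𝓘 0) (hcoh 0) y
    · haveI : Subsingleton (((FExist.tower 𝓘 𝔐).obj (op 0)).presheaf.stalk x) :=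
        DCohLib.subsingleton_stalk_pushforward (FSch.completionToX (X : Scheme.{u}) 𝓘 0) _ x hx
      rw [CAlgBasics.depth_eq_top]
      exact le_top
  obtain ⟨F, hF, ⟨c⟩⟩ := PuncSecLib.algebraization_regular hG hstalk hΓ hH2
  obtain ⟨β, -⟩ := FExist.exists_completion_iso_tower h𝓘 hF
  obtain ⟨a⟩ := FExist.nonempty_iso_of_tower (β.symm ≪≫ c)
  obtain ⟨b⟩ := nonempty_completionMod_iso 𝓘 F
  exact ⟨F, hF, ⟨b ≪≫ a⟩⟩

end Groth.Agent.LefAmpleLib
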