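import Groth.Agent.S3372
import Groth.Agent.CurveLib.SmulPow
import Groth.Agent.AmpleLib.GenLocus
import Groth.Agent.DCohLib.Restrict
import Groth.Agent.RegLocal.Consequences
import Groth.Agent.LefAmpleLib.Open
import Groth.Agent.H1ZeroLib.Quot
import Groth.Agent.InfNbhdLib.Scheme
import Groth.Agent.IdealStalkLib.Comap
import Groth.Agent.PuncSecLib.ModPow
import Groth.Agent.BCLib.TensorFun
import Groth.Agent.S2269
import Groth.Agent.QCohLib.Coherent
import Groth.Agent.IntLib.Divisor

/-!
# Coherent modules on the punctured spectrum and the Lefschetz bijection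
-/

set_option autoImplicit false
set_option backward.isDefEq.respectTransparency false
set_option linter.style.haveILetI false
set_option maxHeartbeats 800000

universe u

open CategoryTheory CategoryTheory.Limits AlgebraicGeometry TopologicalSpace
open Groth.Agent.PullbackMod Groth.Agent.PuncSecLib
open Groth.Agent.CurveLib (secOf)

noncomputable section

namespace Groth.Agent.LefAmpleLib

variable {A : Type u} [CommRing A]

/-- Dimension one quotients of a local ring. -/
theorem ringKrullDim_quotient_eq_one [IsLocalRing A] [IsNoetherianRing A] (p : Ideal A) [p.IsPrime] (t : A)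
    (ht : t ∈ IsLocalRing.maximalIdeal A) (htp : t ∉ p)
    (h : ∀ q : Ideal A, q.IsPrime → p ≤ q → t ∈ q → q = IsLocalRing.maximalIdeal A) :
    ringKrullDim (A ⧸ p) = 1 := by
  haveI : IsLocalRing (A ⧸ p) :=
    IsLocalRing.of_surjective' (Ideal.Quotient.mk p) Ideal.Quotient.mk_surjective
  let m := IsLocalRing.maximalIdeal (A ⧸ p)
  let s := Ideal.Quotient.mk p t
  have hs0 : s ≠ 0 := fun e => htp (Ideal.Quotient.eq_zero_iff_mem.1 e)
  have hsm : s ∈ m := by
    haveI : IsLocalHom (Ideal.Quotient.mk p) := IsLocalHom.of_surjective _ Ideal.Quotient.mk_surjective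
    exact map_nonunit (Ideal.Quotient.mk p) t ht
  have hmin : m ∈ (Ideal.span {s}).minimalPrimes := by
    refine ⟨⟨inferInstance, (Ideal.span_singleton_le_iff_mem m).2 hsm⟩, fun q ⟨hq, hsq⟩ _ => ?_⟩
    haveI := hq
    have hq' := h (q.comap (Ideal.Quotient.mk p)) inferInstance
      (fun a ha => by rw [Ideal.mem_comap, Ideal.Quotient.eq_zero_iff_mem.2 ha]; exact q.zero_mem)
      ((Ideal.span_singleton_le_iff_mem q).1 hsq)
    have hqm : q.IsMaximal := by
      have h2 := Ideal.map_comap_of_surjective (Ideal.Quotient.mk p) Ideal.Quotient.mk_surjective q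
      rw [hq'] at h2
      haveI : (IsLocalRing.maximalIdeal A).IsMaximal := inferInstance
      rcases Ideal.map_eq_top_or_isMaximal_of_surjective (Ideal.Quotient.mk p) Ideal.Quotient.mk_surjective this with
        h3 | h3
      · exact absurd (h2.symm.trans h3) hq.ne_top
      · exact h2 ▸ h3
    exact (IsLocalRing.eq_maximalIdeal hqm).ge
  haveI : (Ideal.span {s} : Ideal (A ⧸ p)).IsPrincipal := ⟨⟨s, rfl⟩⟩
  have h1 : m.height ≤ 1 := Ideal.height_le_one_of_isPrincipal_of_mem_minimalPrimes _ m hmin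
  have h2 : m.height ≠ 0 := by
    intro e
    rw [Ideal.height_eq_zero_iff_eq_bot] at e
    exact hs0 (by simpa [e] using hsm)
  have h3 : m.height = 1 := le_antisymm h1 (Order.one_le_iff_ne_zero.2 h2)
  rw [← IsLocalRing.maximalIdeal_height_eq_ringKrullDim, h3]
  rfl

/-- The depth of the structure sheaf of an open of an affine scheme. -/
theorem depth_stalk_open (U : (Sp A).Opens) (x : (U : Scheme.{u})) :
    LocCoh.depth ((U : Scheme.{u}).presheaf.stalk x) ((Coh.structureModule (U : Scheme.{u})).presheaf.stalk x) =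
      LocCoh.depth (Localization.AtPrime (U.ι x).asIdeal) (Localization.AtPrime (U.ι x).asIdeal) := by
  obtain ⟨v, hv⟩ := ParaFLib.exists_stalk_gen (ParaFLib.isInvertible_structureModule (X := (U : Scheme.{u}))) x
  rw [← Depth.depth_congr (LinearEquiv.ofBijective (LinearMap.toSpanSingleton _ _ v) hv)]
  let p : PrimeSpectrum A := U.ι x
  letI : Algebra A ((Sp A).presheaf.stalk p) := StructureSheaf.stalkAlgebra A p
  haveI : IsLocalization.AtPrime ((Sp A).presheaf.stalk p) p.asIdeal := StructureSheaf.IsLocalization.to_stalk A p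
  let σ : (U : Scheme.{u}).presheaf.stalk x ≃+* Localization.AtPrime p.asIdeal :=
    (asIso (U.ι.stalkMap x)).commRingCatIsoToRingEquiv.symm.trans
      (IsLocalization.algEquiv p.asIdeal.primeCompl ((Sp A).presheaf.stalk p)
        (Localization.AtPrime p.asIdeal)).toRingEquiv
  exact S3372.depth_eq_of_semilinear σ σ.toAddEquiv fun a b => map_mul σ a b

variable (U : (Sp A).Opens)

/-- The global function given by an element. -/
abbrev gs (a : A) : Γ((U : Scheme.{u}), ⊤) :=
  Coh.toGlobal ((U : Scheme.{u}) ↘ Spec (CommRingCat.of A)) a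

theorem germ_gs (a : A) (x : (U : Scheme.{u})) :
    (U : Scheme.{u}).presheaf.germ ⊤ x trivial (gs U a) =
      U.ι.stalkMap x ((Sp A).presheaf.germ ⊤ (U.ι x) trivial ((Scheme.ΓSpecIso (CommRingCat.of A)).inv a)) :=
  (Scheme.Hom.germ_stalkMap_apply U.ι ⊤ x trivial _).symm

theorem stalkLin_smulMod (M : (U : Scheme.{u}).Modules) (a : A) (x : (U : Scheme.{u})) (z : M.presheaf.stalk x) :
    stalkLin (Formal.smulMod A M a) x z = (U : Scheme.{u}).presheaf.germ ⊤ x trivial (gs U a) • z :=
  BCLib.stalkLin_smulModΓ M _ x z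

theorem mono_smulMod [IsNoetherianRing A] (t : A) (ht : IsSMulRegular A t) :
    Mono (Formal.smulMod A (Coh.structureModule (U : Scheme.{u})) t) := by
  refine (mono_iff_stalk _).2 fun x => (injective_iff_map_eq_zero _).2 fun z hz => ?_
  rw [stalkLin_smulMod] at hz
  obtain ⟨c, rfl⟩ := (ParaFLib.bijective_oneG x).2 z
  change _ • (c • ParaFLib.oneG x) = 0 at hz
  rw [smul_smul] at hz
  have hg := (ParaFLib.bijective_oneG x).1 (hz.trans (zero_smul _ _).symm)
  let p : PrimeSpectrum A := U.ι x
  letI : Algebra A ((Sp A).presheaf.stalk p) := StructureSheaf.stalkAlgebra A p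
  haveI : IsLocalization.AtPrime ((Sp A).presheaf.stalk p) p.asIdeal := StructureSheaf.IsLocalization.to_stalk A p
  let σ := (asIso (U.ι.stalkMap x)).commRingCatIsoToRingEquiv
  have h2 : algebraMap A ((Sp A).presheaf.stalk p) t * σ.symm c = 0 := σ.injective (by
    rw [map_mul, map_zero, σ.apply_symm_apply]
    refine Eq.trans ?_ hg
    rw [germ_gs]
    rfl)
  haveI : Module.Flat A ((Sp A).presheaf.stalk p) := IsLocalization.flat _ p.asIdeal.primeCompl
  have h3 : IsSMulRegular ((Sp A).presheaf.stalk p) t := ht.of_flat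
  have h4 : σ.symm c = 0 := h3 (by simp only; rw [smul_zero, Algebra.smul_def]; exact h2)
  have : c = 0 := σ.symm.injective (h4.trans (map_zero _).symm)
  show c • ParaFLib.oneG x = 0
  rw [this, zero_smul]

/-- The ideal sheaf of `t = 0`. -/
abbrev idealT (t : A) : (U : Scheme.{u}).IdealSheafData :=
  ((Spec.map (CommRingCat.ofHom (Ideal.Quotient.mk (Ideal.span {t})))).ker).comap U.ι

theorem stalkIdeal_idealT (t : A) (x : (U : Scheme.{u})) :
    IntMult.stalkIdeal (idealT U t) x = Ideal.span {(U : Scheme.{u}).presheaf.germ ⊤ x trivial (gs U t)} := by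
  let q := Spec.map (CommRingCat.ofHom (Ideal.Quotient.mk (Ideal.span {t})))
  haveI : IsClosedImmersion q := IsClosedImmersion.spec_of_surjective _ Ideal.Quotient.mk_surjective
  let T : (Sp A).affineOpens := ⟨⊤, isAffineOpen_top _⟩
  have hker : q.ker.ideal T = Ideal.span {(Scheme.ΓSpecIso (CommRingCat.of A)).inv t} := by
    rw [Scheme.Hom.ker_apply]
    have key : ∀ a : A, q.app ⊤ ((Scheme.ΓSpecIso (CommRingCat.of A)).inv a) =
        (Scheme.ΓSpecIso (CommRingCat.of (A ⧸ Ideal.span {t}))).inv (Ideal.Quotient.mk _ a) := fun a =>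
      (congr($(Scheme.ΓSpecIso_inv_naturality (CommRingCat.ofHom (Ideal.Quotient.mk (Ideal.span {t})))) a)).symm
    ext b
    obtain ⟨a, rfl⟩ : ∃ a, (Scheme.ΓSpecIso (CommRingCat.of A)).inv a = b :=
      (ConcreteCategory.bijective_of_isIso (Scheme.ΓSpecIso (CommRingCat.of A)).inv).2 b
    rw [RingHom.mem_ker]
    constructor
    · intro hb
      have h0 : Ideal.Quotient.mk (Ideal.span {t}) a = 0 :=
        (ConcreteCategory.bijective_of_isIso (Scheme.ΓSpecIso (CommRingCat.of (A ⧸ Ideal.span {t}))).inv).1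
          (((key a).symm.trans hb).trans (map_zero _).symm)
      obtain ⟨c, rfl⟩ := Ideal.mem_span_singleton'.1 (Ideal.Quotient.eq_zero_iff_mem.1 h0)
      exact Ideal.mem_span_singleton'.2 ⟨_, (map_mul (Scheme.ΓSpecIso (CommRingCat.of A)).inv.hom c t).symm⟩
    · intro hb
      obtain ⟨c, hc⟩ := Ideal.mem_span_singleton'.1 hb
      rw [← hc, map_mul]
      refine mul_eq_zero_of_right _ ?_
      rw [key, Ideal.Quotient.eq_zero_iff_mem.2 (Ideal.mem_span_singleton_self t), map_zero]
  rw [IdealStalkLib.stalkIdeal_comap, IdealStalkLib.stalkIdeal_eq _ T (U.ι x) trivial, hker, Ideal.map_map,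
    Ideal.map_span, Set.image_singleton, germ_gs]
  rfl

theorem notMem_asIdeal_of_notMem (t : A) (x : (U : Scheme.{u})) (hx : x ∉ (idealT U t).support) :
    t ∉ (U.ι x).asIdeal := by
  intro ht
  refine hx ?_
  rw [Scheme.IdealSheafData.support_comap]
  refine (Scheme.Hom.range_subset_ker_support _) ?_
  change U.ι x ∈ Set.range (PrimeSpectrum.comap (Ideal.Quotient.mk (Ideal.span {t})))
  rw [_root_.range_comap_of_surjective _ _ Ideal.Quotient.mk_surjective, Ideal.mk_ker,
    PrimeSpectrum.zeroLocus_span, PrimeSpectrum.mem_zeroLocus, Set.singleton_subset_iff]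
  exact ht

/-- `O/(t^{n+1})` in the two notations. -/
theorem exists_modPow_quotMod_iso (t : A) (n : ℕ) :
    ∃ θ : Formal.modPow (Ideal.span {t}) (n + 1) (Coh.structureModule (U : Scheme.{u})) ≅
        ClSub.quotMod (idealT U t ^ (n + 1)),
      Formal.modPowπ (Ideal.span {t}) (n + 1) (Coh.structureModule (U : Scheme.{u})) ≫ θ.hom =
        ClSub.toSubscheme (idealT U t ^ (n + 1)) := by
  let O := Coh.structureModule (U : Scheme.{u})
  let I := Ideal.span {t}
  let K := idealT U t ^ (n + 1)
  let π := Formal.modPowπ I (n + 1) O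
  let f := ClSub.toSubscheme K
  haveI := HilbObsLib.epi_toSubscheme K
  haveI : Epi π := inferInstanceAs (Epi (cokernel.π _))
  have hK : ∀ x, IntMult.stalkIdeal K x = Ideal.span {(U : Scheme.{u}).presheaf.germ ⊤ x trivial (gs U (t ^ (n + 1)))} := by
    intro x
    rw [InfNbhdLib.stalkIdeal_pow, stalkIdeal_idealT, Ideal.span_singleton_pow]
    simp only [gs, map_pow]
  have h1 : Formal.smulFamily (I ^ (n + 1)) O ≫ f = 0 := by
    refine Sigma.hom_ext _ _ fun a => ?_
    rw [comp_zero, Formal.smulFamily, Sigma.ι_desc_assoc]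
    refine hom_ext_stalk fun x => LinearMap.ext fun z => ?_
    rw [DevLib.stalkLin_zero, LinearMap.zero_apply, stalkLin_comp, LinearMap.comp_apply, stalkLin_smulMod]
    obtain ⟨c, rfl⟩ := (ParaFLib.bijective_oneG x).2 z
    show stalkLin f x (_ • (c • ParaFLib.oneG x)) = 0
    rw [smul_smul]
    refine (H1ZeroLib.qv_eq_zero_iff K x _).2 ?_
    refine Ideal.mul_mem_right _ _ ?_
    have ha := a.2
    have ha' : (a : A) ∈ Ideal.span {t ^ (n + 1)} := Ideal.span_singleton_pow t (n + 1) ▸ ha
    obtain ⟨d, hd⟩ := Ideal.mem_span_singleton'.1 ha'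
    have hg : gs U (a : A) = gs U d * gs U (t ^ (n + 1)) := (congrArg (gs U) hd.symm).trans (map_mul _ _ _)
    rw [hK]
    exact Ideal.mem_span_singleton'.2 ⟨(U : Scheme.{u}).presheaf.germ ⊤ x trivial (gs U d),
      ((congrArg ((U : Scheme.{u}).presheaf.germ ⊤ x trivial).hom hg).trans
        (map_mul ((U : Scheme.{u}).presheaf.germ ⊤ x trivial).hom _ _)).symm⟩
  have h2 : kernel.ι f ≫ π = 0 := kernel_comp_eq_zero _ _ fun x z hz => by
    obtain ⟨c, rfl⟩ := (ParaFLib.bijective_oneG x).2 z
    have hc : c ∈ IntMult.stalkIdeal K x := (H1ZeroLib.qv_eq_zero_iff K x c).1 hz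
    rw [hK, Ideal.mem_span_singleton'] at hc
    obtain ⟨d, rfl⟩ := hc
    have hmem : t ^ (n + 1) ∈ I ^ (n + 1) := Ideal.pow_mem_pow (Ideal.mem_span_singleton_self t) _
    have h0 : Formal.smulMod A O (t ^ (n + 1)) ≫ π = 0 := by
      have := congrArg (fun w => Sigma.ι (fun _ : ↥(I ^ (n + 1)) => O) ⟨_, hmem⟩ ≫ w)
        (cokernel.condition (Formal.smulFamily (I ^ (n + 1)) O))
      simp only [comp_zero, Formal.smulFamily, Sigma.ι_desc_assoc] at this
      exact this
    have h3 := congr(stalkLin $h0 x (d • ParaFLib.oneG x))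
    rw [DevLib.stalkLin_zero, LinearMap.zero_apply, stalkLin_comp, LinearMap.comp_apply, stalkLin_smulMod,
      smul_smul, mul_comm] at h3
    exact h3
  let a : Formal.modPow I (n + 1) O ⟶ ClSub.quotMod K := cokernel.desc _ f h1
  let b : ClSub.quotMod K ⟶ Formal.modPow I (n + 1) O := Abelian.epiDesc f π h2
  have ha : π ≫ a = f := cokernel.π_desc _ _ _
  have hb : f ≫ b = π := Abelian.comp_epiDesc _ _ _
  refine ⟨⟨a, b, ?_, ?_⟩, ha⟩
  · rw [← cancel_epi π, Category.comp_id, ← Category.assoc, ha, hb]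
  · rw [← cancel_epi f, Category.comp_id, ← Category.assoc, hb, ha]

section Sections

variable {X : Scheme.{u}}

/-- Maps out of the unit as degree zero classes. -/
def unitClass (M : X.Modules) (g : Coh.structureModule X ⟶ M) : Coh.HH X M 0 := (secOf M).symm (AmpleLib.sec g)

theorem bijective_unitClass (M : X.Modules) : Function.Bijective (unitClass M) :=
  ⟨fun _ _ e => DCohLib.hom_unit_ext ((secOf M).symm.injective e), fun c => ⟨DCohLib.secHom M (secOf M c), by
    rw [unitClass, AmpleLib.sec_secHom, AddEquiv.symm_apply_apply]⟩⟩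

theorem unitClass_comp {N N' : X.Modules} (g : Coh.structureModule X ⟶ N) (f : N ⟶ N') :
    unitClass N' (g ≫ f) = Sheaf.H.map ((SheafOfModules.toSheaf X.ringCatSheaf).map f) 0 (unitClass N g) := by
  apply (secOf N').injective
  simp only [unitClass, AddEquiv.apply_symm_apply]
  show _ = CohBase.H0Equiv (⊤ : X.Opens) (Coh.toAb N') (CohBase.HEquiv _ 0 (Sheaf.H.map _ 0 _))
  rw [CohBase.HEquiv_map, CohBase.H0Equiv_hmap]
  show _ = f.app ⊤ (secOf N ((secOf N).symm (AmpleLib.sec g)))
  rw [AddEquiv.apply_symm_apply]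
  rfl

end Sections

/-- The bijection for the structure sheaf. -/
theorem homToFormalBijective_unit (t : A)
    (h : Function.Bijective (Formal.toHHlim (Ideal.span {t}) (Coh.structureModule (U : Scheme.{u})) 0)) :
    Lef.HomToFormalBijective (idealT U t) (Coh.structureModule (U : Scheme.{u})) := by
  let I := Ideal.span {t}
  let O := Coh.structureModule (U : Scheme.{u})
  choose θ hθ using exists_modPow_quotMod_iso U t
  have hφ : ∀ (φ : O ⟶ O) (n : ℕ), Formal.toHHmodPow I O 0 n (unitClass O φ) =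
      unitClass _ ((φ ≫ ClSub.toSubscheme (idealT U t ^ (n + 1))) ≫ (θ n).inv) := fun φ n => by
    rw [← hθ n, Category.assoc, Category.assoc, Iso.hom_inv_id, Category.comp_id, unitClass_comp]
    rfl
  refine ⟨fun φ ψ e => (bijective_unitClass O).1 (h.1 (Subtype.ext (funext fun n => ?_))), fun y hy => ?_⟩
  · show Formal.toHHmodPow I O 0 n _ = Formal.toHHmodPow I O 0 n _
    rw [hφ, hφ, e n]
  · have hq : ∀ n, (θ (n + 1)).inv ≫ Formal.modPowTrans I (n + 1) O =
        Lef.quotMap (Lef.pow_succ_le (idealT U t) n) ≫ (θ n).inv := fun n => by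
      haveI := HilbObsLib.epi_toSubscheme (idealT U t ^ (n + 2))
      rw [← cancel_epi (ClSub.toSubscheme (idealT U t ^ (n + 2))), toSubscheme_quotMap_assoc, ← hθ (n + 1),
        Category.assoc, Iso.hom_inv_id_assoc, ← hθ n, Category.assoc, Iso.hom_inv_id, Category.comp_id]
      exact Formal.modPowπ_trans I (n + 1) O
    obtain ⟨c, hc⟩ := h.2 ⟨fun n => unitClass _ (y n ≫ (θ n).inv), fun n =>
      (unitClass_comp (y (n + 1) ≫ (θ (n + 1)).inv) (Formal.modPowTrans I (n + 1) O)).symm.trans
        (congrArg (unitClass _) (by rw [Category.assoc, hq n, ← Category.assoc, hy n]))⟩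
    obtain ⟨φ, rfl⟩ := (bijective_unitClass O).2 c
    refine ⟨φ, fun n => ?_⟩
    have h1 := congrFun (congrArg Subtype.val hc) n
    change Formal.toHHmodPow I O 0 n (unitClass O φ) = _ at h1
    rw [hφ] at h1
    exact (cancel_mono (θ n).inv).1 ((bijective_unitClass _).1 h1)

/-- A coherent module on an open of a Noetherian affine scheme is a quotient of a free one. -/
theorem exists_epi_free [IsNoetherianRing A] {M : (U : Scheme.{u}).Modules} (hM : Coh.IsCoh M) :
    ∃ (r : ℕ) (π : FlatMod.freeMod (U : Scheme.{u}) r ⟶ M), Epi π := by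
  obtain ⟨M₀, _, _, hM₀, ⟨φ⟩⟩ := (Groth.Agent.S2269.result A U M).1 hM
  haveI := hM₀
  have φ' : M ≅ (tR U).obj (ModuleCat.of A M₀) := φ
  obtain ⟨r, g, hg⟩ := Module.Finite.exists_fin' A M₀
  haveI : PreservesColimitsOfSize.{u, u} (tR U) := (tRadj U).leftAdjoint_preservesColimits
  haveI : Epi (ModuleCat.ofHom g) := (ModuleCat.epi_iff_surjective _).2 hg
  haveI : Epi ((tR U).map (ModuleCat.ofHom g)) := inferInstance
  exact ⟨r, (freeIso U r).hom ≫ (tR U).map (ModuleCat.ofHom g) ≫ φ'.inv, inferInstance⟩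

/-- The bijection passes from the unit to coherent modules on an open of a Noetherian affine scheme. -/
theorem homToFormalBijective_open_coh [IsNoetherianRing A] [IsLocallyNoetherian (U : Scheme.{u})]
    (J : (U : Scheme.{u}).IdealSheafData) (h : Lef.HomToFormalBijective J (Coh.structureModule (U : Scheme.{u})))
    {M : (U : Scheme.{u}).Modules} (hM : Coh.IsCoh M) : Lef.HomToFormalBijective J M := by
  let O := Coh.structureModule (U : Scheme.{u})
  have hinjF : ∀ (r : ℕ) (g : FlatMod.freeMod (U : Scheme.{u}) r ⟶ O),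
      (∀ n, g ≫ ClSub.toSubscheme (J ^ (n + 1)) = 0) → g = 0 := fun r g hg =>
    Sigma.hom_ext _ _ fun i => by
      rw [comp_zero]
      exact h.1 _ 0 fun n => by rw [zero_comp, Category.assoc, hg n, comp_zero]
  have hinj : ∀ {M : (U : Scheme.{u}).Modules}, Coh.IsCoh M → ∀ φ : M ⟶ O,
      (∀ n, φ ≫ ClSub.toSubscheme (J ^ (n + 1)) = 0) → φ = 0 := by
    intro M hM φ hφ
    obtain ⟨r, π, hπ⟩ := exists_epi_free U hM
    haveI := hπ
    rw [← cancel_epi π, comp_zero]
    exact hinjF r _ fun n => by rw [Category.assoc, hφ n, comp_zero]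
  refine ⟨fun φ ψ e => sub_eq_zero.1 (hinj hM (φ - ψ) fun n => by rw [Preadditive.sub_comp, e n, sub_self]),
    fun y hy => ?_⟩
  obtain ⟨r, π, hπ⟩ := exists_epi_free U hM
  haveI := hπ
  choose φ hφ using fun i : Fin r => h.2 (fun n => Sigma.ι (fun _ : Fin r => O) i ≫ π ≫ y n) fun n => by
    simp only [Category.assoc, hy n]
  let g : FlatMod.freeMod (U : Scheme.{u}) r ⟶ O := Sigma.desc φ
  have hg : ∀ n, g ≫ ClSub.toSubscheme (J ^ (n + 1)) = π ≫ y n := fun n =>
    Sigma.hom_ext _ _ fun i => by rw [← Category.assoc, Sigma.ι_desc]; exact hφ i n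
  have hK : kernel.ι π ≫ g = 0 := hinj
    (QCohLib.isCoh_kernel_cokernel π (CurveLib.isCoh_of_isFinLocFree (DCohLib.isFinLocFree_freeMod r)) hM).1 _
    fun n => by rw [Category.assoc, hg n, kernel.condition_assoc, zero_comp]
  refine ⟨Abelian.epiDesc π g hK, fun n => ?_⟩
  rw [← cancel_epi π, ← Category.assoc, Abelian.comp_epiDesc, hg n]

end Groth.Agent.LefAmpleLib
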