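import Groth.Agent.ProjSerreLib.ClosedSub
import Groth.Agent.ProjSerreLib.Twists
import Groth.Agent.HorrocksPnLib.Ext1
import Groth.Agent.H1ZeroLib.VeryAmple
import Groth.Agent.IntLib.Cls
import Groth.Agent.CurveLib.Inv
import Groth.Agent.DCohLib.TensorPerf
import Groth.Agent.AmpleLib.Pullback
import Groth.Agent.S9710

/-!
# Vanishing of negative powers of an ample module below the depth
-/

set_option autoImplicit false
set_option backward.isDefEq.respectTransparency false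
set_option linter.style.haveILetI false
set_option maxHeartbeats 400000

universe u

open CategoryTheory CategoryTheory.Limits AlgebraicGeometry
open Groth.Agent.IntLib (mk mk_congr mk_tensor mk_structureModule mk_tensorPow mk_eq_mk)

noncomputable section

namespace Groth.Agent.LefAmpleLib

variable {k : Type u} [Field k] {n : ℕ} {X : Scheme.{u}} (ι : X ⟶ CohB1.ProjSpace n k)

/-- The class of a twist on the subscheme. -/
def twc (a : ℤ) : IntLib.MCls X := mk ((Scheme.Modules.pullback ι).obj (Twist.twistProjSpace n k a))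

theorem twc_mul (a b : ℤ) : twc ι a * twc ι b = twc ι (a + b) := by
  obtain ⟨e⟩ := ProjSerreLib.nonempty_mul (k := k) (n := n) a b
  exact (mk_congr (AmpleLib.pullTensor ι _ _).symm).trans (mk_congr ((Scheme.Modules.pullback ι).mapIso e))

theorem twc_mul_neg (a : ℤ) : twc ι a * twc ι (-a) = 1 := by
  obtain ⟨e⟩ := HorrocksPnLib.nonempty_cancel_twist (k := k) (n := n) (add_neg_cancel a)
  exact (mk_congr (AmpleLib.pullTensor ι _ _).symm).trans
    (mk_congr ((Scheme.Modules.pullback ι).mapIso e ≪≫ AmpleLib.pullO ι))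

theorem twc_nat : ∀ q : ℕ, twc ι q = twc ι 1 ^ q
  | 0 => by
    rw [pow_zero]
    have h0 := twc_mul_neg ι 0
    rw [twc_mul, neg_zero, add_zero] at h0
    exact h0
  | q + 1 => by rw [pow_succ, ← twc_nat q, twc_mul]; rfl

/-- Below the depth at closed points, the cohomology of `E ⊗ L^{-m}` vanishes for large `m`. -/
theorem eventually_subsingleton_neg (k : Type u) [Field k] {X : Scheme.{u}} [X.Over (Spec (CommRingCat.of k))]
    [IsProper (X ↘ Spec (CommRingCat.of k))] {L L' : X.Modules} (hA : CohB1.IsAmple L)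
    (η : Nonempty (CohB1.tensorMod L L' ≅ Coh.structureModule X)) {E : X.Modules} (hE : FlatMod.IsFinLocFree E)
    {r : ℕ} (hdepth : ∀ x : X, IsClosed ({x} : Set X) → (r : ℕ∞) ≤ LocCoh.depth (X.presheaf.stalk x) (X.presheaf.stalk x)) :
    ∃ m₀ : ℕ, ∀ m, m₀ ≤ m → ∀ i, i < r → Subsingleton (Coh.HH X (CohB1.tensorMod E (CohB1.tensorPow L' m)) i) := by
  haveI := EulerIneqLib.isNoetherian_proper (X := X) k
  obtain ⟨d₀, hd₀, hd⟩ := S9710.result (X ↘ Spec (CommRingCat.of k)) L hA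
  obtain ⟨N, j, hj, -, ⟨θ⟩⟩ := H1ZeroLib.exists_closedImmersion_of_va k (X ↘ Spec (CommRingCat.of k)) (hd d₀ le_rfl)
  haveI := hj
  obtain ⟨η⟩ := η
  have hL' : PicF.IsInvertible L' := AmpleLib.isInvertible_of_tensor_iso (AmpleLib.comm L' L ≪≫ η)
  have hLL : mk L * mk L' = 1 := mk_congr η
  have h1 : twc j 1 = mk L ^ d₀ := (mk_congr θ).trans (mk_tensorPow L d₀)
  have hneg : ∀ q : ℕ, twc j (-(q : ℤ)) = mk L' ^ (d₀ * q) := fun q => by
    have hq : twc j (q : ℤ) * mk L' ^ (d₀ * q) = 1 := by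
      rw [twc_nat, h1, ← pow_mul, ← mul_pow, hLL, one_pow]
    calc twc j (-(q : ℤ)) = twc j (-(q : ℤ)) * (twc j (q : ℤ) * mk L' ^ (d₀ * q)) := by rw [hq, mul_one]
      _ = mk L' ^ (d₀ * q) := by rw [← mul_assoc, mul_comm (twc j (-(q : ℤ))), twc_mul_neg, one_mul]
  have hflf : ∀ s : ℕ, FlatMod.IsFinLocFree (CohB1.tensorMod E (CohB1.tensorPow L' s)) := fun s =>
    DCohLib.isFinLocFree_tensor hE (CurveLib.isFinLocFree_of_isInvertible (AmpleLib.isInvertible_tensorPow hL' s))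
  have hs : ∀ s : ℕ, ∃ q₀ : ℤ, ∀ q : ℤ, q₀ ≤ q → ∀ i, i < r →
      Subsingleton (Coh.HH X (Pic13.twistOn k j (CohB1.tensorMod E (CohB1.tensorPow L' s)) (-q)) i) := fun s =>
    (ProjSerreLib.vanish_lt_iff_depth_sub j (CurveLib.isCoh_of_isFinLocFree (hflf s)) r).2 fun x hx => by
      obtain ⟨hfree, hfin⟩ := DCohLib.free_finite_stalk_of_flf (hflf s) x
      exact ProjSerreLib.le_depth_of_free _ r (hdepth x hx)
  choose q₀ hq₀ using hs
  refine ⟨d₀ * ((Finset.range d₀).sup fun s => (q₀ s).toNat), fun m hm i hi => ?_⟩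
  have hmd := Nat.div_add_mod m d₀
  have hs' : m % d₀ ∈ Finset.range d₀ := Finset.mem_range.2 (Nat.mod_lt _ hd₀)
  have hq : (q₀ (m % d₀)).toNat ≤ m / d₀ :=
    (Finset.le_sup (f := fun s => (q₀ s).toNat) hs').trans
      ((Nat.le_div_iff_mul_le hd₀).2 (by rwa [mul_comm]))
  haveI := hq₀ (m % d₀) ((m / d₀ : ℕ) : ℤ) ((Int.self_le_toNat _).trans (Int.ofNat_le.2 hq)) i hi
  obtain ⟨e⟩ : Nonempty (Pic13.twistOn k j (CohB1.tensorMod E (CohB1.tensorPow L' (m % d₀))) (-((m / d₀ : ℕ) : ℤ)) ≅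
      CohB1.tensorMod E (CohB1.tensorPow L' m)) := by
    rw [← mk_eq_mk]
    show mk E * mk (CohB1.tensorPow L' (m % d₀)) * twc j (-((m / d₀ : ℕ) : ℤ)) = mk E * mk (CohB1.tensorPow L' m)
    rw [hneg, mk_tensorPow, mk_tensorPow, mul_assoc, ← pow_add, Nat.add_comm, hmd]
  exact ProjCoh.subsingleton_of_iso e i

end Groth.Agent.LefAmpleLib
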